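import Cfsg.Prelude.Def_LieExceptional
import Mathlib

/-!
# The Suzuki group as stabiliser of the Suzuki-Tits ovoid: explicit elements
-/

set_option autoImplicit false
set_option linter.unusedSimpArgs false
set_option linter.unusedVariables false

namespace Cfsg.Agent.Lib.SuzOv

open Matrix Cfsg
open scoped MatrixGroups Pointwise

variable {F : Type*} [Field F]

/-- Abstract scalar hypotheses: `x ↦ x ^ s` is a field endomorphism in characteristic two, squaring to Frobenius. -/
structure Sc (F : Type*) [Field F] (s : ℕ) : Prop where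
  two : (2 : F) = 0
  add : ∀ a b : F, (a + b) ^ s = a ^ s + b ^ s
  ss : ∀ a : F, (a ^ s) ^ s = a ^ 2
  pos : s ≠ 0

section abstract

variable {s : ℕ} (S : Sc F s)

include S

lemma Sc.neg (x : F) : -x = x := by
  linear_combination (-x) * S.two

lemma Sc.sub (x y : F) : x - y = x + y := by
  linear_combination (-y) * S.two

lemma Sc.self_add (x : F) : x + x = 0 := by
  linear_combination x * S.two

lemma Sc.sq_add (a b : F) : (a + b) ^ 2 = a ^ 2 + b ^ 2 := by
  linear_combination (a * b) * S.two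

lemma Sc.sq_inj {a b : F} (h : a ^ 2 = b ^ 2) : a = b := by
  have h1 : (a + b) ^ 2 = 0 := by
    rw [S.sq_add, h]
    exact S.self_add _
  have h3 : a + b = 0 := pow_eq_zero_iff two_ne_zero |>.1 h1
  linear_combination h3 - b * S.two

lemma Sc.s_inj {a b : F} (h : a ^ s = b ^ s) : a = b := by
  apply S.sq_inj
  rw [← S.ss a, ← S.ss b, h]

lemma Sc.sq_s (a : F) : (a ^ 2) ^ s = (a ^ s) ^ 2 := by
  rw [← pow_mul, mul_comm, pow_mul]

/-- The third coordinate function of the ovoid. -/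
def cs (s : ℕ) (x y : F) : F := x * y + x ^ s * x ^ 2 + y ^ s

lemma cs_add (a b x y : F) :
    cs s (x + a) (y + b + a ^ s * x) = cs s x y + a * y + (b + a * a ^ s) * x + cs s a b := by
  simp only [cs]
  rw [S.add x a, S.add (y + b), S.add y b, mul_pow, S.ss a, S.sq_add]
  linear_combination (a ^ s * x ^ 2 + a ^ 2 * x ^ s) * S.two

lemma cs_eq_zero {x y : F} (h : cs s x y = 0) : x = 0 ∧ y = 0 := by
  simp only [cs] at h
  generalize hX : x ^ s = X at h
  have h1 : y ^ s = x * y + X * x ^ 2 := by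
    linear_combination h - (x * y + X * x ^ 2) * S.two
  have h3 : y ^ 2 = X * x * y := by
    have h4 : (y ^ s) ^ s = (x * y + X * x ^ 2) ^ s := by rw [h1]
    rw [S.ss, S.add, mul_pow, mul_pow, S.sq_s, hX, h1, ← hX, S.ss] at h4
    rw [h4, hX]
    linear_combination (x ^ 2 * X ^ 2) * S.two
  have h4 : y * (y + X * x) = 0 := by
    linear_combination h3 + (X * x * y) * S.two
  rcases mul_eq_zero.1 h4 with hy | hy
  · subst hy
    rw [zero_pow S.pos] at h1
    have : X * x ^ 2 = 0 := by linear_combination -h1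
    rcases mul_eq_zero.1 this with h5 | h5
    · rw [← hX] at h5
      exact ⟨pow_eq_zero_iff S.pos |>.1 h5, rfl⟩
    · exact ⟨pow_eq_zero_iff two_ne_zero |>.1 h5, rfl⟩
  · have hy' : y = X * x := by linear_combination hy - (X * x) * S.two
    have h6 : y ^ s = 0 := by
      rw [h1, hy']
      have h7 : x * (X * x) + X * x ^ 2 = 2 * (X * x ^ 2) := by ring
      rw [h7, S.two, zero_mul]
    have h7 : y = 0 := pow_eq_zero_iff S.pos |>.1 h6
    rw [h7] at hy'
    refine ⟨?_, h7⟩
    rcases mul_eq_zero.1 hy'.symm with h8 | h8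
    · rw [← hX] at h8
      exact pow_eq_zero_iff S.pos |>.1 h8
    · exact h8

/-- The inversion formula for the Weyl element. -/
lemma cs_inv {x y : F} (h : cs s x y ≠ 0) :
    cs s (y / cs s x y) (x / cs s x y) = 1 / cs s x y := by
  have hcs : (cs s x y) ^ s = x ^ s * y ^ s + x ^ 2 * (x ^ s) ^ 2 + y ^ 2 := by
    simp only [cs]
    rw [S.add, S.add, mul_pow, mul_pow, S.ss, S.ss, S.sq_s]
  generalize hc : cs s x y = c at h hcs ⊢
  simp only [cs] at hc ⊢
  rw [div_pow, div_pow, div_pow]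
  have hcs0 : c ^ s ≠ 0 := pow_ne_zero _ h
  generalize hC : c ^ s = C at hcs hcs0 ⊢
  generalize hX : x ^ s = X at hc hcs ⊢
  generalize hY : y ^ s = Y at hc hcs ⊢
  field_simp
  rw [hcs, ← hc]
  linear_combination (y * x * X * Y + y * x ^ 3 * X ^ 2) * S.two

end abstract

/-- The standing hypotheses. -/
structure SH (F : Type*) [Field F] [Fintype F] (m : ℕ) : Prop where
  hm : 1 ≤ m
  hF : Fintype.card F = 2 ^ (2 * m + 1)

section concrete

variable [Fintype F] {m : ℕ} (S : SH F m)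

include S

lemma SH.two : (2 : F) = 0 := by
  have h0 := FiniteField.cast_card_eq_zero F
  rw [S.hF] at h0
  push_cast at h0
  exact pow_eq_zero_iff (by omega) |>.mp h0

lemma SH.charP : CharP F 2 := CharTwo.of_one_ne_zero_of_two_eq_zero one_ne_zero S.two

lemma SH.sc : Sc F (2 ^ (m + 1)) where
  two := S.two
  add := by
    intro a b
    haveI := S.charP
    haveI : Fact (Nat.Prime 2) := ⟨Nat.prime_two⟩
    exact add_pow_char_pow a b 2 (m + 1)
  ss := by
    intro a
    have h4 : 2 ^ (m + 1) * 2 ^ (m + 1) = Fintype.card F * 2 := by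
      rw [S.hF]; ring
    rw [← pow_mul, h4, pow_mul, FiniteField.pow_card]
  pos := by positivity

lemma SH.add_r (a b : F) : (a + b) ^ (2 ^ m) = a ^ (2 ^ m) + b ^ (2 ^ m) := by
  haveI := S.charP
  haveI : Fact (Nat.Prime 2) := ⟨Nat.prime_two⟩
  exact add_pow_char_pow a b 2 m

end concrete

/-- Ovoid vector. -/
def ov (m : ℕ) (x y : F) : Fin 4 → F := ![x * y + x ^ (2 ^ (m + 1) + 2) + y ^ (2 ^ (m + 1)), y, x, 1]

lemma ov_eq (m : ℕ) (x y : F) : ov m x y = ![cs (2 ^ (m + 1)) x y, y, x, 1] := by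
  simp only [ov, cs]
  rw [pow_add x (2 ^ (m + 1)) 2]

lemma ov_ne (m : ℕ) (x y : F) : ov m x y ≠ 0 := by
  intro h
  have := congrFun h 3
  simp [ov] at this

/-- Vector at infinity. -/
def vinf : Fin 4 → F := ![1, 0, 0, 0]

lemma vinf_ne : (vinf : Fin 4 → F) ≠ 0 := by
  intro h
  have := congrFun h 0
  simp [vinf] at this

/-- Point of the ovoid at infinity. -/
noncomputable def pinf (F : Type*) [Field F] : Projectivization F (Fin 4 → F) := Projectivization.mk F vinf vinf_ne

/-- Affine point of the ovoid. -/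
noncomputable def pt (m : ℕ) (x y : F) : Projectivization F (Fin 4 → F) := Projectivization.mk F (ov m x y) (ov_ne m x y)

lemma pinf_eq : pinf F = Cfsg.suzukiPointInfinity F := rfl

lemma pt_zero_eq (m : ℕ) : pt m (0 : F) 0 = Cfsg.suzukiPointZero F := by
  rw [pt, Cfsg.suzukiPointZero]
  congr 1
  simp [ov]

lemma mem_ovoid_iff (m : ℕ) (p : Projectivization F (Fin 4 → F)) :
    p ∈ Cfsg.suzukiOvoid F m ↔ p = pinf F ∨ ∃ x y : F, p = pt m x y := by
  constructor
  · rintro ⟨v, hv, rfl, h | ⟨x, y, h⟩⟩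
    · subst h
      exact Or.inl rfl
    · subst h
      exact Or.inr ⟨x, y, rfl⟩
  · rintro (rfl | ⟨x, y, rfl⟩)
    · exact ⟨vinf, vinf_ne, rfl, Or.inl rfl⟩
    · exact ⟨ov m x y, ov_ne m x y, rfl, Or.inr ⟨x, y, rfl⟩⟩

lemma pinf_mem (m : ℕ) : pinf F ∈ Cfsg.suzukiOvoid F m := (mem_ovoid_iff m _).2 (Or.inl rfl)

lemma pt_mem (m : ℕ) (x y : F) : pt m x y ∈ Cfsg.suzukiOvoid F m := (mem_ovoid_iff m _).2 (Or.inr ⟨x, y, rfl⟩)

lemma pt_ne_pinf (m : ℕ) (x y : F) : pt m x y ≠ pinf F := by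
  intro h
  rw [pt, pinf, Projectivization.mk_eq_mk_iff'] at h
  obtain ⟨a, ha⟩ := h
  have h3 := congrFun ha 3
  simp [ov, vinf] at h3

lemma pt_inj {m : ℕ} {x y x' y' : F} (h : pt m x y = pt m x' y') : x = x' ∧ y = y' := by
  rw [pt, pt, Projectivization.mk_eq_mk_iff'] at h
  obtain ⟨a, ha⟩ := h
  have h3 := congrFun ha 3
  simp [ov] at h3
  subst h3
  have h1 := congrFun ha 1
  have h2 := congrFun ha 2
  simp [ov] at h1 h2
  exact ⟨h2.symm, h1.symm⟩

end Cfsg.Agent.Lib.SuzOv
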