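import Cfsg.Agent.Lib.SuzOv.Basic
import Mathlib

/-!
# Explicit elements of the Suzuki group: translations, torus, Weyl element
-/

set_option autoImplicit false
set_option linter.unusedSimpArgs false
set_option linter.unusedVariables false

namespace Cfsg.Agent.Lib.SuzOv

open Matrix Cfsg
open scoped MatrixGroups Pointwise

variable {F : Type*} [Field F] {m : ℕ}

lemma det_four {R : Type*} [CommRing R] (M : Matrix (Fin 4) (Fin 4) R) :
    M.det =
      M 0 0 * (M 1 1 * (M 2 2 * M 3 3 - M 2 3 * M 3 2) - M 1 2 * (M 2 1 * M 3 3 - M 2 3 * M 3 1) + M 1 3 * (M 2 1 * M 3 2 - M 2 2 * M 3 1))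
      - M 0 1 * (M 1 0 * (M 2 2 * M 3 3 - M 2 3 * M 3 2) - M 1 2 * (M 2 0 * M 3 3 - M 2 3 * M 3 0) + M 1 3 * (M 2 0 * M 3 2 - M 2 2 * M 3 0))
      + M 0 2 * (M 1 0 * (M 2 1 * M 3 3 - M 2 3 * M 3 1) - M 1 1 * (M 2 0 * M 3 3 - M 2 3 * M 3 0) + M 1 3 * (M 2 0 * M 3 1 - M 2 1 * M 3 0))
      - M 0 3 * (M 1 0 * (M 2 1 * M 3 2 - M 2 2 * M 3 1) - M 1 1 * (M 2 0 * M 3 2 - M 2 2 * M 3 0) + M 1 2 * (M 2 0 * M 3 1 - M 2 1 * M 3 0)) := by
  rw [Matrix.det_succ_row_zero]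
  simp only [Fin.sum_univ_four]
  simp only [Matrix.det_fin_three, Matrix.submatrix_apply]
  simp [Fin.succAbove, Fin.succ]
  ring

/-- The unipotent matrix. -/
def TM (m : ℕ) (a b : F) : Matrix (Fin 4) (Fin 4) F :=
  !![1, a, b + a * a ^ (2 ^ (m + 1)), cs (2 ^ (m + 1)) a b;
     0, 1, a ^ (2 ^ (m + 1)), b;
     0, 0, 1, a;
     0, 0, 0, 1]

lemma TM_det (m : ℕ) (a b : F) : (TM m a b).det = 1 := by
  rw [det_four]
  simp [TM]

/-- The unipotent element. -/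
def T (m : ℕ) (a b : F) : SL(4, F) := ⟨TM m a b, TM_det m a b⟩

lemma T_coe (a b : F) : ((T m a b : SL(4, F)) : Matrix (Fin 4) (Fin 4) F) = TM m a b := rfl

/-- The diagonal of the torus. -/
def dg (m : ℕ) (A : Fˣ) : Fin 4 → F :=
  ![(A : F) ^ (2 ^ m + 1), (A : F) ^ (2 ^ m), ((A⁻¹ : Fˣ) : F) ^ (2 ^ m), ((A⁻¹ : Fˣ) : F) ^ (2 ^ m + 1)]

lemma dg_det (m : ℕ) (A : Fˣ) : (diagonal (dg m A)).det = 1 := by
  rw [det_four]
  have h : (A : F) * ((A⁻¹ : Fˣ) : F) = 1 := by simp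
  simp [dg, Matrix.diagonal_apply]

/-- The torus element. -/
def H (m : ℕ) (A : Fˣ) : SL(4, F) := ⟨diagonal (dg m A), dg_det m A⟩

lemma H_coe (A : Fˣ) : ((H m A : SL(4, F)) : Matrix (Fin 4) (Fin 4) F) = diagonal (dg m A) := rfl

lemma H_mul (A B : Fˣ) : H m (A * B) = H m A * H m B := by
  apply Subtype.ext
  rw [Matrix.SpecialLinearGroup.coe_mul, H_coe, H_coe, H_coe, Matrix.diagonal_mul_diagonal]
  congr 1
  ext i
  fin_cases i <;> simp [dg, mul_pow] <;> ring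

lemma H_one : H m (1 : Fˣ) = 1 := by
  apply Subtype.ext
  rw [H_coe]
  ext i j
  fin_cases i <;> fin_cases j <;> simp [dg, Matrix.diagonal_apply]

/-- The torus as a homomorphism. -/
def Hh (m : ℕ) : Fˣ →* SL(4, F) where
  toFun := H m
  map_one' := H_one
  map_mul' := H_mul

lemma H_inv (A : Fˣ) : H m A⁻¹ = (H m A)⁻¹ := map_inv (Hh m) A

/-- The Weyl matrix. -/
def WM : Matrix (Fin 4) (Fin 4) F := !![0, 0, 0, 1; 0, 0, 1, 0; 0, 1, 0, 0; 1, 0, 0, 0]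

lemma WM_det : (WM : Matrix (Fin 4) (Fin 4) F).det = 1 := by
  rw [det_four]
  simp [WM]

lemma WM_mul (M : Matrix (Fin 4) (Fin 4) F) (i j : Fin 4) : ((WM : Matrix (Fin 4) (Fin 4) F) * M) i j = M i.rev j := by
  rw [Matrix.mul_apply, Fin.sum_univ_four]
  fin_cases i <;> simp [WM, Fin.rev]

lemma mul_WM (M : Matrix (Fin 4) (Fin 4) F) (i j : Fin 4) : (M * (WM : Matrix (Fin 4) (Fin 4) F)) i j = M i j.rev := by
  rw [Matrix.mul_apply, Fin.sum_univ_four]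
  fin_cases j <;> simp [WM, Fin.rev]

/-- The Weyl element. -/
def W : SL(4, F) := ⟨WM, WM_det⟩

lemma W_coe : ((W : SL(4, F)) : Matrix (Fin 4) (Fin 4) F) = WM := rfl

lemma W_sq : (W : SL(4, F)) * W = 1 := by
  apply Subtype.ext
  rw [Matrix.SpecialLinearGroup.coe_mul, W_coe]
  ext i j
  fin_cases i <;> fin_cases j <;> simp [WM, Matrix.mul_apply, Fin.sum_univ_four]

lemma W_inv : (W : SL(4, F))⁻¹ = W := inv_eq_of_mul_eq_one_left W_sq

lemma W_H_W (A : Fˣ) : W * H m A * W = H m A⁻¹ := by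
  apply Subtype.ext
  rw [Matrix.SpecialLinearGroup.coe_mul, Matrix.SpecialLinearGroup.coe_mul, W_coe, H_coe, H_coe]
  ext i j
  rw [mul_WM, WM_mul]
  fin_cases i <;> fin_cases j <;> simp [dg, Matrix.diagonal_apply, Fin.rev]

section vec

lemma smul_vec (g : SL(4, F)) (v : Fin 4 → F) : g • v = (g : Matrix (Fin 4) (Fin 4) F) *ᵥ v := rfl

lemma T_vinf (a b : F) : (T m a b) • (vinf : Fin 4 → F) = vinf := by
  rw [smul_vec, T_coe]
  ext i
  fin_cases i <;> simp [TM, vinf, Matrix.mulVec, dotProduct, Fin.sum_univ_four]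

lemma W_vinf : (W : SL(4, F)) • (vinf : Fin 4 → F) = ov m 0 0 := by
  rw [smul_vec, W_coe]
  ext i
  fin_cases i <;> simp [WM, vinf, ov, Matrix.mulVec, dotProduct, Fin.sum_univ_four]

lemma W_ov0 : (W : SL(4, F)) • (ov m 0 0 : Fin 4 → F) = vinf := by
  rw [smul_vec, W_coe]
  ext i
  fin_cases i <;> simp [WM, vinf, ov, Matrix.mulVec, dotProduct, Fin.sum_univ_four]

lemma H_vinf (A : Fˣ) : (H m A) • (vinf : Fin 4 → F) = ((A : F) ^ (2 ^ m + 1)) • vinf := by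
  rw [smul_vec, H_coe]
  ext i
  fin_cases i <;> simp [dg, vinf, Matrix.mulVec, dotProduct, Fin.sum_univ_four, Matrix.diagonal_apply]

variable [Fintype F] (S : SH F m)

include S

lemma T_ov (a b x y : F) : (T m a b) • (ov m x y) = ov m (x + a) (y + b + a ^ (2 ^ (m + 1)) * x) := by
  rw [smul_vec, T_coe, ov_eq, ov_eq, cs_add S.sc]
  ext i
  fin_cases i <;> simp [TM, Matrix.mulVec, dotProduct, Fin.sum_univ_four] <;> ring

lemma W_ov {x y : F} (h : cs (2 ^ (m + 1)) x y ≠ 0) :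
    (W : SL(4, F)) • (ov m x y) = (cs (2 ^ (m + 1)) x y) •
      ov m (y / cs (2 ^ (m + 1)) x y) (x / cs (2 ^ (m + 1)) x y) := by
  rw [smul_vec, W_coe, ov_eq, ov_eq, cs_inv S.sc h]
  generalize cs (2 ^ (m + 1)) x y = c at h
  ext i
  fin_cases i <;> simp [WM, Matrix.mulVec, dotProduct, Fin.sum_univ_four] <;> field_simp

lemma H_ov (A : Fˣ) (x y : F) :
    (H m A) • (ov m x y) = (((A⁻¹ : Fˣ) : F) ^ (2 ^ m + 1)) •
      ov m ((A : F) * x) ((A : F) ^ (2 ^ (m + 1) + 1) * y) := by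
  have h0 : (A : F) * ((A⁻¹ : Fˣ) : F) = 1 := by simp
  have hs : (2 : ℕ) ^ (m + 1) = 2 * 2 ^ m := by ring
  generalize hB : ((A⁻¹ : Fˣ) : F) = B at h0 ⊢
  have hb1 : B ^ (2 ^ m + 1) * (A : F) = B ^ (2 ^ m) := by
    rw [pow_succ, mul_assoc, mul_comm B, h0, mul_one]
  have hb2 : B ^ (2 ^ m + 1) * (A : F) ^ (2 ^ (m + 1) + 1) = (A : F) ^ (2 ^ m) := by
    rw [hs]
    calc B ^ (2 ^ m + 1) * (A : F) ^ (2 * 2 ^ m + 1)
        = ((A : F) * B) ^ (2 ^ m + 1) * (A : F) ^ (2 ^ m) := by ring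
      _ = _ := by rw [h0, one_pow, one_mul]
  have hb3 : B ^ (2 ^ m + 1) * (A : F) ^ (2 ^ (m + 1) + 2) = (A : F) ^ (2 ^ m + 1) := by
    rw [hs]
    calc B ^ (2 ^ m + 1) * (A : F) ^ (2 * 2 ^ m + 2)
        = ((A : F) * B) ^ (2 ^ m + 1) * (A : F) ^ (2 ^ m + 1) := by ring
      _ = _ := by rw [h0, one_pow, one_mul]
  have hc : cs (2 ^ (m + 1)) ((A : F) * x) ((A : F) ^ (2 ^ (m + 1) + 1) * y)
      = (A : F) ^ (2 ^ (m + 1) + 2) * cs (2 ^ (m + 1)) x y := by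
    simp only [cs]
    have h1 : ((A : F) ^ (2 ^ (m + 1) + 1)) ^ (2 ^ (m + 1)) = ((A : F) ^ (2 ^ (m + 1))) ^ (2 ^ (m + 1)) * (A : F) ^ (2 ^ (m + 1)) := by
      rw [pow_succ, mul_pow]
    rw [mul_pow, mul_pow, mul_pow, h1, S.sc.ss, pow_add (A : F) _ 2]
    ring
  rw [smul_vec, H_coe, ov_eq, ov_eq, hc]
  ext i
  fin_cases i
  · simp [dg, Matrix.mulVec, dotProduct, Fin.sum_univ_four, Matrix.diagonal_apply, ← mul_assoc, hb3]
  · simp [dg, Matrix.mulVec, dotProduct, Fin.sum_univ_four, Matrix.diagonal_apply, ← mul_assoc, hb2]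
  · simp [dg, Matrix.mulVec, dotProduct, Fin.sum_univ_four, Matrix.diagonal_apply, ← mul_assoc, hb1, hB]
  · simp [dg, Matrix.mulVec, dotProduct, Fin.sum_univ_four, Matrix.diagonal_apply, hB]

end vec

section proj

lemma smul_pt (g : SL(4, F)) (x y : F) :
    g • pt m x y = Projectivization.mk F (g • ov m x y) (by
      intro h
      have h1 := congrArg (fun v => g⁻¹ • v) h
      simp only [inv_smul_smul, smul_zero] at h1
      exact ov_ne m x y h1) := Projectivization.smul_mk g _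

lemma smul_pinf (g : SL(4, F)) :
    g • pinf F = Projectivization.mk F (g • vinf) (by
      intro h
      have h1 := congrArg (fun v => g⁻¹ • v) h
      simp only [inv_smul_smul, smul_zero] at h1
      exact vinf_ne h1) := Projectivization.smul_mk g _

lemma T_pinf (a b : F) : T m a b • pinf F = pinf F := by
  rw [smul_pinf, pinf]
  congr 1
  exact T_vinf a b

lemma W_pinf : (W : SL(4, F)) • pinf F = pt m 0 0 := by
  rw [smul_pinf, pt]
  congr 1
  exact W_vinf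

lemma W_pt0 : (W : SL(4, F)) • pt m 0 0 = pinf F := by
  rw [smul_pt, pinf]
  congr 1
  exact W_ov0

lemma H_pinf (A : Fˣ) : H m A • pinf F = pinf F := by
  rw [smul_pinf, pinf, Projectivization.mk_eq_mk_iff']
  exact ⟨(A : F) ^ (2 ^ m + 1), (H_vinf A).symm⟩

variable [Fintype F] (S : SH F m)

include S

lemma T_pt (a b x y : F) : T m a b • pt m x y = pt m (x + a) (y + b + a ^ (2 ^ (m + 1)) * x) := by
  rw [smul_pt, pt]
  congr 1
  exact T_ov S a b x y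

lemma H_pt (A : Fˣ) (x y : F) : H m A • pt m x y = pt m ((A : F) * x) ((A : F) ^ (2 ^ (m + 1) + 1) * y) := by
  rw [smul_pt, pt, Projectivization.mk_eq_mk_iff']
  exact ⟨_, (H_ov S A x y).symm⟩

lemma W_pt {x y : F} (h : cs (2 ^ (m + 1)) x y ≠ 0) :
    (W : SL(4, F)) • pt m x y = pt m (y / cs (2 ^ (m + 1)) x y) (x / cs (2 ^ (m + 1)) x y) := by
  rw [smul_pt, pt, Projectivization.mk_eq_mk_iff']
  exact ⟨_, (W_ov S h).symm⟩

omit S

lemma mem_Sz_iff (g : SL(4, F)) : g ∈ Cfsg.Sz F m ↔ ∀ p ∈ Cfsg.suzukiOvoid F m, g • p ∈ Cfsg.suzukiOvoid F m :=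
  MulAction.mem_stabilizer_set' (Set.toFinite _)

include S

lemma T_mem (a b : F) : T m a b ∈ Cfsg.Sz F m := by
  rw [mem_Sz_iff]
  intro p hp
  rcases (mem_ovoid_iff m p).1 hp with rfl | ⟨x, y, rfl⟩
  · rw [T_pinf]
    exact pinf_mem m
  · rw [T_pt S]
    exact pt_mem m _ _

lemma H_mem (A : Fˣ) : H m A ∈ Cfsg.Sz F m := by
  rw [mem_Sz_iff]
  intro p hp
  rcases (mem_ovoid_iff m p).1 hp with rfl | ⟨x, y, rfl⟩
  · rw [H_pinf]
    exact pinf_mem m
  · rw [H_pt S]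
    exact pt_mem m _ _

lemma W_mem : (W : SL(4, F)) ∈ Cfsg.Sz F m := by
  rw [mem_Sz_iff]
  intro p hp
  rcases (mem_ovoid_iff m p).1 hp with rfl | ⟨x, y, rfl⟩
  · rw [W_pinf]
    exact pt_mem m _ _
  · by_cases h : cs (2 ^ (m + 1)) x y = 0
    · obtain ⟨rfl, rfl⟩ := cs_eq_zero S.sc h
      rw [W_pt0]
      exact pinf_mem m
    · rw [W_pt S h]
      exact pt_mem m _ _

/-- The group law of the translations. -/
lemma T_mul (a b x y : F) : T m a b * T m x y = T m (a + x) (b + y + a ^ (2 ^ (m + 1)) * x) := by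
  apply Subtype.ext
  rw [Matrix.SpecialLinearGroup.coe_mul, T_coe, T_coe, T_coe]
  have hS := S.sc
  simp only [TM]
  generalize (2 : ℕ) ^ (m + 1) = s at hS
  have h1 := cs_add hS a b x y
  have hadd := hS.add a x
  ext i j
  fin_cases i <;> fin_cases j <;> simp [Matrix.mul_apply, Fin.sum_univ_four]
  · ring
  · rw [hadd]
    linear_combination (-(a ^ s * x)) * hS.two
  · rw [add_comm a x, add_comm b y, h1]
  · rw [hadd]
    ring
  · ring
  · ring

end proj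

end Cfsg.Agent.Lib.SuzOv
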