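import Cfsg.Agent.Lib.SuzOv.Stab
import Mathlib

/-!
# Structure of the Suzuki group: Bruhat decomposition and order
-/

set_option autoImplicit false
set_option linter.unusedSimpArgs false
set_option linter.unusedVariables false

namespace Cfsg.Agent.Lib.SuzOv

open Matrix Cfsg
open scoped MatrixGroups Pointwise

variable {F : Type*} [Field F] {m : ℕ} [Fintype F] (S : SH F m)

include S

lemma T_zero : T m (0 : F) 0 = 1 := by
  apply Subtype.ext
  rw [T_coe]
  have hS := S.sc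
  simp only [TM]
  generalize (2 : ℕ) ^ (m + 1) = s at hS
  ext i j
  fin_cases i <;> fin_cases j <;> simp [cs, hS.pos]

lemma T_inv (a b : F) : (T m a b)⁻¹ = T m a (b + a * a ^ (2 ^ (m + 1))) := by
  apply inv_eq_of_mul_eq_one_right
  rw [T_mul S]
  have h1 : a + a = 0 := S.sc.self_add a
  have h3 : b + (b + a * a ^ 2 ^ (m + 1)) + a ^ 2 ^ (m + 1) * a = 0 := by
    linear_combination (b + a * a ^ 2 ^ (m + 1)) * S.two
  rw [h1, h3, T_zero S]

lemma cs_scale (A x y : F) : cs (2 ^ (m + 1)) (A * x) (A ^ (2 ^ (m + 1) + 1) * y) = A ^ (2 ^ (m + 1)) * A ^ 2 * cs (2 ^ (m + 1)) x y := by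
  have hS := S.sc
  generalize (2 : ℕ) ^ (m + 1) = s at hS
  simp only [cs]
  have h1 : (A ^ (s + 1)) ^ s = (A ^ s) ^ s * A ^ s := by
    rw [pow_succ, mul_pow]
  rw [mul_pow, mul_pow, mul_pow, h1, hS.ss, pow_succ]
  ring

lemma H_T_H (A : Fˣ) (a b : F) :
    H m A * T m a b * (H m A)⁻¹ = T m ((A : F) * a) ((A : F) ^ (2 ^ (m + 1) + 1) * b) := by
  have hc := cs_scale S (A : F) a b
  rw [← H_inv]
  apply Subtype.ext
  rw [Matrix.SpecialLinearGroup.coe_mul, Matrix.SpecialLinearGroup.coe_mul, H_coe, H_coe, T_coe, T_coe]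
  have hI : (A : F) * ((A⁻¹ : Fˣ) : F) = 1 := by simp
  have hs2 : (2 : ℕ) ^ (m + 1) = 2 ^ m * 2 := by ring
  have hi : (((A⁻¹)⁻¹ : Fˣ) : F) = A := by simp
  simp only [TM, dg, hi]
  rw [hc]
  rw [hs2]
  generalize ((A⁻¹ : Fˣ) : F) = I at hI
  generalize (A : F) = X at hI
  have hp : X ^ (2 ^ m) * I ^ (2 ^ m) = 1 := by rw [← mul_pow, hI, one_pow]
  have e1 : X ^ (2 ^ m + 1) = X ^ (2 ^ m) * X := pow_succ _ _
  have e2 : I ^ (2 ^ m + 1) = I ^ (2 ^ m) * I := pow_succ _ _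
  have e3 : X ^ (2 ^ m * 2 + 1) = (X ^ (2 ^ m)) ^ 2 * X := by rw [pow_succ, pow_mul]
  have e4 : (X * a) ^ (2 ^ m * 2) = (X ^ (2 ^ m)) ^ 2 * a ^ (2 ^ m * 2) := by rw [mul_pow, pow_mul X]
  have e5 : X ^ (2 ^ m * 2) = (X ^ (2 ^ m)) ^ 2 := pow_mul _ _ _
  rw [e1, e2, e3, e4, e5]
  generalize X ^ (2 ^ m) = P at hp
  generalize I ^ (2 ^ m) = Q at hp
  generalize a ^ (2 ^ m * 2) = Y
  generalize cs (2 ^ m * 2) a b = c
  ext i j
  rw [Matrix.mul_apply, Fin.sum_univ_four]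
  simp only [Matrix.diagonal_mul, Matrix.mul_diagonal]
  fin_cases i <;> fin_cases j <;> simp <;> grind

lemma H_inj {A B : Fˣ} (h : H m A = H m B) : A = B := by
  have h1 : H m A • pt m (1 : F) 0 = H m B • pt m (1 : F) 0 := by rw [h]
  rw [H_pt S, H_pt S] at h1
  obtain ⟨h3, -⟩ := pt_inj h1
  apply Units.ext
  simpa using h3

lemma T_inj {a b a' b' : F} (h : T m a b = T m a' b') : a = a' ∧ b = b' := by
  have h1 : T m a b • pt m (0 : F) 0 = T m a' b' • pt m (0 : F) 0 := by rw [h]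
  rw [T_pt S, T_pt S] at h1
  obtain ⟨h3, h4⟩ := pt_inj h1
  simp at h3 h4
  exact ⟨h3, h4⟩

lemma T_pt0 (a b : F) : T m a b • pt m (0 : F) 0 = pt m a b := by
  rw [T_pt S]
  simp

/-- Elements fixing the point at infinity. -/
theorem borel (g : SL(4, F)) (hg : g ∈ Cfsg.Sz F m) (h1 : g • pinf F = pinf F) :
    ∃ (a b : F) (A : Fˣ), g = T m a b * H m A := by
  have hmem : g • pt m (0 : F) 0 ∈ Cfsg.suzukiOvoid F m := (mem_Sz_iff g).1 hg _ (pt_mem m 0 0)
  rcases (mem_ovoid_iff m _).1 hmem with h | ⟨a, b, h⟩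
  · exfalso
    have h5 : g • pt m (0 : F) 0 = g • pinf F := by rw [h, h1]
    exact pt_ne_pinf m (0 : F) 0 (smul_left_cancel g h5)
  · have hk : (T m a b)⁻¹ * g ∈ Cfsg.Sz F m :=
      Subgroup.mul_mem _ (Subgroup.inv_mem _ (T_mem S a b)) hg
    obtain ⟨A, hA⟩ := stab_two S _ hk
      (by rw [mul_smul, h1, inv_smul_eq_iff, T_pinf])
      (by rw [mul_smul, h, inv_smul_eq_iff, T_pt0 S])
    refine ⟨a, b, A, ?_⟩
    rw [← hA, mul_inv_cancel_left]

/-- Bruhat decomposition. -/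
theorem bruhat (g : SL(4, F)) (hg : g ∈ Cfsg.Sz F m) :
    (∃ (a b : F) (A : Fˣ), g = T m a b * H m A) ∨
      ∃ (a b a' b' : F) (A : Fˣ), g = T m a b * W * (T m a' b' * H m A) := by
  have hmem : g • pinf F ∈ Cfsg.suzukiOvoid F m := (mem_Sz_iff g).1 hg _ (pinf_mem m)
  rcases (mem_ovoid_iff m _).1 hmem with h | ⟨a, b, h⟩
  · exact Or.inl (borel S g hg h)
  · refine Or.inr ?_
    have hk : W * (T m a b)⁻¹ * g ∈ Cfsg.Sz F m :=
      Subgroup.mul_mem _ (Subgroup.mul_mem _ (W_mem S) (Subgroup.inv_mem _ (T_mem S a b))) hg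
    obtain ⟨a', b', A, hA⟩ := borel S _ hk (by
      rw [mul_smul, mul_smul, h]
      have : (T m a b)⁻¹ • pt m a b = pt m (0 : F) 0 := by
        rw [inv_smul_eq_iff, T_pt0 S]
      rw [this, W_pt0])
    refine ⟨a, b, a', b', A, ?_⟩
    rw [← hA, ← mul_assoc, ← mul_assoc, mul_assoc (T m a b) W W, W_sq, mul_one, mul_inv_cancel, one_mul]

omit S in
lemma smul_coe (g : ↥(Cfsg.Sz F m)) (p : Projectivization F (Fin 4 → F)) : g • p = (g : SL(4, F)) • p := rfl

omit S in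
/-- The number of points of the ovoid (the same proof as for the statement on it). -/
lemma ovoid_card : Nat.card (Cfsg.suzukiOvoid F m) = Fintype.card F ^ 2 + 1 := by
  classical
  let f : Option (F × F) → Cfsg.suzukiOvoid F m := fun o =>
    match o with
    | none => ⟨pinf F, pinf_mem m⟩
    | some (x, y) => ⟨pt m x y, pt_mem m x y⟩
  have hbij : Function.Bijective f := by
    constructor
    · rintro (_ | ⟨x, y⟩) (_ | ⟨x', y'⟩) h
      · rfl
      · exact absurd (congrArg Subtype.val h).symm (pt_ne_pinf m x' y')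
      · exact absurd (congrArg Subtype.val h) (pt_ne_pinf m x y)
      · obtain ⟨rfl, rfl⟩ := pt_inj (congrArg Subtype.val h)
        rfl
    · rintro ⟨p, hp⟩
      rcases (mem_ovoid_iff m p).1 hp with rfl | ⟨x, y, rfl⟩
      · exact ⟨none, rfl⟩
      · exact ⟨some (x, y), rfl⟩
  rw [← Nat.card_congr (Equiv.ofBijective f hbij)]
  simp [Nat.card_eq_fintype_card, pow_two]

/-- Element of the group from a translation. -/
def tT (a b : F) : ↥(Cfsg.Sz F m) := ⟨T m a b, T_mem S a b⟩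

/-- Element of the group from the torus. -/
def tH (A : Fˣ) : ↥(Cfsg.Sz F m) := ⟨H m A, H_mem S A⟩

/-- The Weyl element of the group. -/
def tW : ↥(Cfsg.Sz F m) := ⟨W, W_mem S⟩

lemma tT_mul (a b x y : F) : tT S a b * tT S x y = tT S (a + x) (b + y + a ^ (2 ^ (m + 1)) * x) :=
  Subtype.ext (T_mul S a b x y)

lemma tH_mul (A B : Fˣ) : tH S (A * B) = tH S A * tH S B := Subtype.ext (H_mul A B)

/-- The torus as a homomorphism. -/
def tHh : Fˣ →* ↥(Cfsg.Sz F m) where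
  toFun := tH S
  map_one' := Subtype.ext H_one
  map_mul' := tH_mul S

lemma tW_sq : tW S * tW S = 1 := Subtype.ext W_sq

lemma tH_T_H (A : Fˣ) (a b : F) :
    tH S A * tT S a b * (tH S A)⁻¹ = tT S ((A : F) * a) ((A : F) ^ (2 ^ (m + 1) + 1) * b) :=
  Subtype.ext (H_T_H S A a b)

lemma tT_zero : tT S (0 : F) 0 = 1 := Subtype.ext (T_zero S)

lemma tT_inv (a b : F) : (tT S a b)⁻¹ = tT S a (b + a * a ^ (2 ^ (m + 1))) := Subtype.ext (T_inv S a b)

lemma stab_inf_iff (g : ↥(Cfsg.Sz F m)) :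
    g ∈ MulAction.stabilizer (Cfsg.Sz F m) (Cfsg.suzukiPointInfinity F) ↔ ∃ (a b : F) (A : Fˣ), g = tT S a b * tH S A := by
  rw [MulAction.mem_stabilizer_iff, smul_coe, ← pinf_eq]
  constructor
  · intro h
    obtain ⟨a, b, A, hab⟩ := borel S g.1 g.2 h
    exact ⟨a, b, A, Subtype.ext hab⟩
  · rintro ⟨a, b, A, rfl⟩
    show (T m a b * H m A) • pinf F = pinf F
    rw [mul_smul, H_pinf, T_pinf]

/-- Order of the stabiliser of the point at infinity. -/
theorem card_stab_inf :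
    Nat.card (MulAction.stabilizer (Cfsg.Sz F m) (Cfsg.suzukiPointInfinity F)) =
      (Fintype.card F) ^ 2 * (Fintype.card F - 1) := by
  classical
  let φ : F × F × Fˣ → MulAction.stabilizer (Cfsg.Sz F m) (Cfsg.suzukiPointInfinity F) :=
    fun t => ⟨tT S t.1 t.2.1 * tH S t.2.2, (stab_inf_iff S _).2 ⟨_, _, _, rfl⟩⟩
  have hφ : Function.Bijective φ := by
    constructor
    · rintro ⟨a, b, A⟩ ⟨a', b', A'⟩ h
      have h1 : T m a b * H m A = T m a' b' * H m A' := congrArg (fun z => ((z : ↥(Cfsg.Sz F m)) : SL(4, F))) (congrArg Subtype.val h)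
      have h3 : (T m a b * H m A) • pt m (0 : F) 0 = (T m a' b' * H m A') • pt m (0 : F) 0 := by rw [h1]
      rw [mul_smul, mul_smul, H_pt S, H_pt S] at h3
      simp only [mul_zero] at h3
      rw [T_pt0 S, T_pt0 S] at h3
      obtain ⟨rfl, rfl⟩ := pt_inj h3
      have h4 : H m A = H m A' := mul_left_cancel h1
      rw [H_inj S h4]
    · rintro ⟨g, hg⟩
      obtain ⟨a, b, A, rfl⟩ := (stab_inf_iff S g).1 hg
      exact ⟨⟨a, b, A⟩, rfl⟩
  rw [← Nat.card_congr (Equiv.ofBijective φ hφ), Nat.card_eq_fintype_card, Fintype.card_prod, Fintype.card_prod,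
    Fintype.card_units]
  ring

lemma pt_smul_inf (a b : F) : (tT S a b * tW S) • pinf F = pt m a b := by
  rw [mul_smul]
  show T m a b • ((W : SL(4, F)) • pinf F) = _
  rw [W_pinf, T_pt0 S]

/-- The orbit of infinity is the ovoid. -/
lemma orbit_inf : MulAction.orbit (Cfsg.Sz F m) (Cfsg.suzukiPointInfinity F) = Cfsg.suzukiOvoid F m := by
  ext p
  constructor
  · rintro ⟨g, rfl⟩
    exact (mem_Sz_iff g.1).1 g.2 _ (pinf_mem m)
  · intro hp
    rcases (mem_ovoid_iff m p).1 hp with rfl | ⟨a, b, rfl⟩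
    · exact ⟨1, one_smul _ _⟩
    · exact ⟨_, pt_smul_inf S a b⟩

/-- The order of the Suzuki group. -/
theorem card_Sz : Nat.card ↥(Cfsg.Sz F m) = Fintype.card F ^ 2 * (Fintype.card F ^ 2 + 1) * (Fintype.card F - 1) := by
  have h1 := Subgroup.card_mul_index (MulAction.stabilizer (Cfsg.Sz F m) (Cfsg.suzukiPointInfinity F))
  rw [MulAction.index_stabilizer, orbit_inf S, card_stab_inf S] at h1
  rw [← h1]
  have h2 : (Cfsg.suzukiOvoid F m).ncard = Fintype.card F ^ 2 + 1 := by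
    rw [← Nat.card_coe_set_eq]
    exact ovoid_card
  rw [h2]
  ring

end Cfsg.Agent.Lib.SuzOv
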