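import Cfsg.Agent.Lib.SuzOv.Sylow
import Mathlib

/-!
# Local structure of the Suzuki group: normalisers of Sylow 2-subgroups, real elements
-/

set_option autoImplicit false
set_option linter.unusedSimpArgs false
set_option linter.unusedVariables false

namespace Cfsg.Agent.Lib.SuzOv

open Matrix Cfsg
open scoped MatrixGroups Pointwise commutatorElement

variable {F : Type*} [Field F] {m : ℕ} [Fintype F] (S : SH F m)

include S

/-- Conjugation inside the translation group. -/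
lemma conj_T (c d a b : F) :
    tT S c d * tT S a b * (tT S c d)⁻¹ = tT S a (b + c ^ (2 ^ (m + 1)) * a + a ^ (2 ^ (m + 1)) * c) := by
  have hS := S.sc
  rw [mul_inv_eq_iff_eq_mul, tT_mul, tT_mul]
  congr 1
  · ring
  · linear_combination (- a ^ (2 ^ (m + 1)) * c) * S.two

/-- Translations move every affine point unless trivial. -/
lemma fix_T {a b : F} {p : Projectivization F (Fin 4 → F)} (hp : p ∈ Cfsg.suzukiOvoid F m)
    (hab : ¬ (a = 0 ∧ b = 0)) (h : tT S a b • p = p) : p = pinf F := by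
  have hS := S.sc
  rcases (mem_ovoid_iff m p).1 hp with rfl | ⟨x, y, rfl⟩
  · rfl
  · exfalso
    rw [tT_pt] at h
    obtain ⟨h1, h3⟩ := pt_inj h
    have ha : a = 0 := by linear_combination h1
    subst ha
    apply hab
    refine ⟨rfl, ?_⟩
    rw [zero_pow hS.pos, zero_mul, add_zero] at h3
    linear_combination h3

/-- Elements fixing infinity. -/
lemma mem_borel (g : ↥(Cfsg.Sz F m)) (h : g • pinf F = pinf F) : ∃ (a b : F) (A : Fˣ), g = tT S a b * tH S A := by
  obtain ⟨a, b, A, hab⟩ := borel S g.1 g.2 h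
  exact ⟨a, b, A, Subtype.ext hab⟩

lemma borel_pinf (a b : F) (A : Fˣ) : (tT S a b * tH S A) • pinf F = pinf F := by
  rw [mul_smul, tH_pinf, tT_pinf]

/-- Conjugation of translations by Borel elements. -/
lemma conj_borel (c d a b : F) (C : Fˣ) :
    (tT S c d * tH S C) * tT S a b * (tT S c d * tH S C)⁻¹ =
      tT S ((C : F) * a) ((C : F) ^ (2 ^ (m + 1) + 1) * b + c ^ (2 ^ (m + 1)) * ((C : F) * a)
        + ((C : F) * a) ^ (2 ^ (m + 1)) * c) := by
  rw [← conj_T S c d ((C : F) * a), ← tH_T_H]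
  group

/-- The equation `w^σ + w = 1` has no solution. -/
lemma no_artin (w : F) : w ^ (2 ^ (m + 1)) + w ≠ 1 := by
  have hS := S.sc
  have h2 := S.two
  generalize (2 : ℕ) ^ (m + 1) = s at hS
  intro h
  have h1 : w ^ s = w + 1 := by linear_combination h - w * h2
  have h3 : (w ^ s) ^ s = (w + 1) ^ s := by rw [h1]
  rw [hS.ss, hS.add, one_pow, h1] at h3
  have h4 : w ^ 2 = w := by linear_combination h3 + h2
  have h5 : w * (w - 1) = 0 := by linear_combination h4
  rcases mul_eq_zero.1 h5 with h6 | h6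
  · subst h6
    rw [zero_pow hS.pos] at h
    simp at h
  · have h7 : w = 1 := sub_eq_zero.1 h6
    subst h7
    rw [one_pow] at h
    have : (1 : F) = 0 := by linear_combination h
    exact one_ne_zero this

/-- Elements of order four in the translation group are not real. -/
lemma not_real {a b : F} (ha : a ≠ 0) : ¬ IsConj (tT S a b) (tT S a b)⁻¹ := by
  have hS := S.sc
  intro hc
  obtain ⟨t, ht⟩ := isConj_iff.1 hc
  -- t fixes infinity
  have h1 : (tT S a b)⁻¹ • (t • pinf F) = t • pinf F := by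
    have : (tT S a b)⁻¹ * t = t * tT S a b := by
      rw [← ht]
      group
    rw [← mul_smul, this, mul_smul, tT_pinf]
  have h3 : t • pinf F = pinf F := by
    rw [inv_smul_eq_iff] at h1
    exact fix_T S (smul_mem_ovoid S t (pinf_mem m)) (fun h => ha h.1) h1.symm
  obtain ⟨c, d, C, rfl⟩ := mem_borel S t h3
  rw [conj_borel, tT_inv] at ht
  obtain ⟨h4, h5⟩ := tT_inj S ht
  have hC : (C : F) = 1 := by
    apply mul_right_cancel₀ ha
    rw [h4, one_mul]
  rw [hC, one_mul, one_pow, one_mul] at h5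
  have h6 : a ^ (2 ^ (m + 1)) * a * ((c / a) ^ (2 ^ (m + 1)) + c / a - 1) = 0 := by
    rw [div_pow]
    have hae : a ^ (2 ^ (m + 1)) ≠ 0 := pow_ne_zero _ ha
    field_simp
    linear_combination h5
  rcases mul_eq_zero.1 h6 with h7 | h7
  · exact (mul_ne_zero (pow_ne_zero _ ha) ha) h7
  · exact no_artin S (c / a) (by linear_combination h7)

/-- Every Sylow 2-subgroup is conjugate to the translation group. -/
lemma sylow_conj (P : Sylow 2 ↥(Cfsg.Sz F m)) :
    ∃ k : ↥(Cfsg.Sz F m), ∀ g, g ∈ (P : Subgroup ↥(Cfsg.Sz F m)) ↔ k⁻¹ * g * k ∈ tU S := by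
  haveI : Fact (Nat.Prime 2) := ⟨Nat.prime_two⟩
  obtain ⟨k, hk⟩ := MulAction.exists_smul_eq ↥(Cfsg.Sz F m) (sylU S) P
  refine ⟨k, fun g => ?_⟩
  rw [← hk, Sylow.coe_subgroup_smul, Subgroup.mem_pointwise_smul_iff_inv_smul_mem, sylU_coe]
  rfl

/-- Reality of 2-elements. -/
theorem real_iff (P : Sylow 2 ↥(Cfsg.Sz F m)) (g : ↥(Cfsg.Sz F m)) (hg : g ∈ (P : Subgroup ↥(Cfsg.Sz F m))) (h1 : g ≠ 1) :
    IsConj g g⁻¹ ↔ orderOf g = 2 := by
  haveI : Fact (Nat.Prime 2) := ⟨Nat.prime_two⟩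
  constructor
  · intro hc
    obtain ⟨k, hk⟩ := sylow_conj S P
    obtain ⟨a, b, hu⟩ := (hk g).1 hg
    have hg' : g = k * tT S a b * k⁻¹ := by
      rw [← hu]
      group
    by_cases ha : a = 0
    · subst ha
      have h3 : tT S 0 b * tT S 0 b = 1 := by
        rw [tT_sq]
        have : (0 : F) ^ (2 ^ (m + 1)) * 0 = 0 := by simp
        rw [this, tT_zero]
      have h4 : g ^ 2 = 1 := by
        rw [hg', sq]
        calc k * tT S 0 b * k⁻¹ * (k * tT S 0 b * k⁻¹) = k * (tT S 0 b * tT S 0 b) * k⁻¹ := by group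
          _ = 1 := by rw [h3]; group
      exact orderOf_eq_prime h4 h1
    · exfalso
      apply not_real S (b := b) ha
      have h5 : IsConj (k⁻¹ * g * k) (k⁻¹ * g * k)⁻¹ := by
        have hc1 : IsConj (k⁻¹ * g * k) g := by
          rw [isConj_iff]
          exact ⟨k, by group⟩
        have hc2 : IsConj g⁻¹ (k⁻¹ * g * k)⁻¹ := by
          rw [isConj_iff]
          exact ⟨k⁻¹, by group⟩
        exact hc1.trans (hc.trans hc2)
      rwa [hu] at h5
  · intro ho
    have h3 : g ^ 2 = 1 := by rw [← ho]; exact pow_orderOf_eq_one g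
    have h4 : g⁻¹ = g := by
      rw [inv_eq_iff_mul_eq_one, ← sq, h3]
    rw [h4]

/-- The normaliser of the translation group. -/
lemma normalizer_tU (g : ↥(Cfsg.Sz F m)) :
    g ∈ Subgroup.normalizer ((tU S : Subgroup ↥(Cfsg.Sz F m)) : Set ↥(Cfsg.Sz F m)) ↔ g • pinf F = pinf F := by
  constructor
  · intro hg
    have h1 : g⁻¹ * tT S 1 0 * g ∈ tU S := by
      have := (Subgroup.mem_normalizer_iff.1 (Subgroup.inv_mem _ hg) (tT S 1 0)).1 (tT_mem_tU S 1 0)
      simpa using this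
    obtain ⟨a, b, h3⟩ := h1
    have h4 : tT S 1 0 * g = g * tT S a b := by
      rw [← h3]
      group
    have h5 : tT S 1 0 • (g • pinf F) = g • pinf F := by
      rw [← mul_smul, h4, mul_smul, tT_pinf]
    exact fix_T S (smul_mem_ovoid S g (pinf_mem m)) (fun h => one_ne_zero h.1) h5
  · intro h
    obtain ⟨c, d, C, rfl⟩ := mem_borel S g h
    rw [Subgroup.mem_normalizer_iff]
    have hfor : ∀ (c d : F) (C : Fˣ) (u : ↥(Cfsg.Sz F m)), u ∈ tU S →
        (tT S c d * tH S C) * u * (tT S c d * tH S C)⁻¹ ∈ tU S := by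
      rintro c d C _ ⟨a, b, rfl⟩
      rw [conj_borel]
      exact tT_mem_tU S _ _
    intro u
    constructor
    · exact hfor c d C u
    · intro hu
      have h3 : (tT S c d * tH S C)⁻¹ • pinf F = pinf F := by
        rw [inv_smul_eq_iff, borel_pinf]
      obtain ⟨c', d', C', h4⟩ := mem_borel S _ h3
      have h5 := hfor c' d' C' _ hu
      rw [← h4] at h5
      have h6 : (tT S c d * tH S C)⁻¹ * ((tT S c d * tH S C) * u * (tT S c d * tH S C)⁻¹) * ((tT S c d * tH S C)⁻¹)⁻¹ = u := by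
        group
      rwa [h6] at h5

/-- The Borel subgroup as a subgroup. -/
lemma top_ne_normalizer : Subgroup.normalizer ((tU S : Subgroup ↥(Cfsg.Sz F m)) : Set ↥(Cfsg.Sz F m)) ≠ ⊤ := by
  intro h
  have h1 : tW S ∈ Subgroup.normalizer ((tU S : Subgroup ↥(Cfsg.Sz F m)) : Set ↥(Cfsg.Sz F m)) := by
    rw [h]; trivial
  rw [normalizer_tU, tW_pinf] at h1
  exact pt_ne_pinf m (0 : F) 0 h1

/-- The translation group is transitive on the points off infinity. -/
lemma tU_trans {p : Projectivization F (Fin 4 → F)} (hp : p ∈ Cfsg.suzukiOvoid F m) (hne : p ≠ pinf F)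
    {r : Projectivization F (Fin 4 → F)} (hr : r ∈ Cfsg.suzukiOvoid F m) (hnr : r ≠ pinf F) :
    ∃ u ∈ tU S, u • p = r := by
  rcases (mem_ovoid_iff m p).1 hp with rfl | ⟨x, y, rfl⟩
  · exact absurd rfl hne
  rcases (mem_ovoid_iff m r).1 hr with rfl | ⟨x', y', rfl⟩
  · exact absurd rfl hnr
  refine ⟨tT S x' y' * (tT S x y)⁻¹, (tU S).mul_mem (tT_mem_tU S _ _) ((tU S).inv_mem (tT_mem_tU S _ _)), ?_⟩
  rw [mul_smul, inv_smul_eq_iff.2 (tT_pt0 S x y).symm, tT_pt0]

/-- A subgroup containing the translations and moving infinity is the whole group. -/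
lemma eq_top_of_moves (M : Subgroup ↥(Cfsg.Sz F m)) (hU : tU S ≤ M) (g : ↥(Cfsg.Sz F m)) (hg : g ∈ M)
    (hmove : g • pinf F ≠ pinf F) : M = ⊤ := by
  -- M is transitive on the ovoid
  have htrans : ∀ p ∈ Cfsg.suzukiOvoid F m, ∃ h ∈ M, h • pinf F = p := by
    intro p hp
    by_cases hpp : p = pinf F
    · exact ⟨1, M.one_mem, by rw [one_smul, hpp]⟩
    obtain ⟨u, hu, hup⟩ := tU_trans S (smul_mem_ovoid S g (pinf_mem m)) hmove hp hpp
    exact ⟨u * g, M.mul_mem (hU hu) hg, by rw [mul_smul, hup]⟩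
  -- the normal core of M contains the translations
  let L : Subgroup ↥(Cfsg.Sz F m) := Subgroup.normalCore M
  have hUL : tU S ≤ L := by
    intro u hu x
    obtain ⟨h, hh, hhx⟩ := htrans _ (smul_mem_ovoid S x (pinf_mem m))
    have h3 : (h⁻¹ * x) • pinf F = pinf F := by
      rw [mul_smul, inv_smul_eq_iff, hhx]
    have h4 : (h⁻¹ * x) ∈ Subgroup.normalizer ((tU S : Subgroup ↥(Cfsg.Sz F m)) : Set ↥(Cfsg.Sz F m)) :=
      (normalizer_tU S _).2 h3
    have h5 := (Subgroup.mem_normalizer_iff.1 h4 u).1 hu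
    have h6 : x * u * x⁻¹ = h * ((h⁻¹ * x) * u * (h⁻¹ * x)⁻¹) * h⁻¹ := by group
    rw [h6]
    exact M.mul_mem (M.mul_mem hh (hU h5)) (M.inv_mem hh)
  have hLtop := eq_top_of_normal_of_le S L hUL
  rw [eq_top_iff, ← hLtop]
  exact Subgroup.normalCore_le M

/-- The Borel subgroup is maximal. -/
lemma coatom_normalizer_tU : IsCoatom (Subgroup.normalizer ((tU S : Subgroup ↥(Cfsg.Sz F m)) : Set ↥(Cfsg.Sz F m))) := by
  refine ⟨top_ne_normalizer S, ?_⟩
  intro K hK
  obtain ⟨g, hgK, hgB⟩ := SetLike.exists_of_lt hK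
  apply eq_top_of_moves S K (hK.le.trans' Subgroup.le_normalizer) g hgK
  intro h
  exact hgB ((normalizer_tU S g).2 h)

/-- The statement for the translation group. -/
lemma unique_coatom (M : Subgroup ↥(Cfsg.Sz F m)) (hM : IsCoatom M) (hU : tU S ≤ M) :
    M = Subgroup.normalizer ((tU S : Subgroup ↥(Cfsg.Sz F m)) : Set ↥(Cfsg.Sz F m)) := by
  by_cases hall : ∀ g ∈ M, g • pinf F = pinf F
  · have hle : M ≤ Subgroup.normalizer ((tU S : Subgroup ↥(Cfsg.Sz F m)) : Set ↥(Cfsg.Sz F m)) :=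
      fun g hg => (normalizer_tU S g).2 (hall g hg)
    exact ((hM.le_iff_eq (top_ne_normalizer S)).1 hle).symm
  · push_neg at hall
    obtain ⟨g, hg, hmove⟩ := hall
    exact absurd (eq_top_of_moves S M hU g hg hmove) hM.1

/-- The statement on normalisers of Sylow 2-subgroups. -/
theorem sylow_normalizer (P : Sylow 2 ↥(Cfsg.Sz F m)) :
    IsCoatom (Subgroup.normalizer ((P : Subgroup ↥(Cfsg.Sz F m)) : Set ↥(Cfsg.Sz F m))) ∧
    ∀ M : Subgroup ↥(Cfsg.Sz F m), IsCoatom M → (P : Subgroup ↥(Cfsg.Sz F m)) ≤ M →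
      M = Subgroup.normalizer ((P : Subgroup ↥(Cfsg.Sz F m)) : Set ↥(Cfsg.Sz F m)) := by
  obtain ⟨k, hk⟩ := sylow_conj S P
  let φ : ↥(Cfsg.Sz F m) ≃* ↥(Cfsg.Sz F m) := MulAut.conj k
  have hP : (P : Subgroup ↥(Cfsg.Sz F m)) = (tU S).map φ.toMonoidHom := by
    ext g
    rw [hk]
    constructor
    · intro h
      refine ⟨_, h, ?_⟩
      show k * (k⁻¹ * g * k) * k⁻¹ = g
      group
    · rintro ⟨u, hu, rfl⟩
      have : k⁻¹ * (k * u * k⁻¹) * k = u := by group
      show k⁻¹ * (k * u * k⁻¹) * k ∈ tU S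
      rwa [this]
  have hN : Subgroup.normalizer ((P : Subgroup ↥(Cfsg.Sz F m)) : Set ↥(Cfsg.Sz F m)) =
      (Subgroup.normalizer ((tU S : Subgroup ↥(Cfsg.Sz F m)) : Set ↥(Cfsg.Sz F m))).map φ.toMonoidHom := by
    rw [hP]
    exact (Subgroup.map_equiv_normalizer_eq _ φ).symm
  rw [hN]
  refine ⟨?_, ?_⟩
  · exact ((MulEquiv.mapSubgroup φ).isCoatom_iff _).2 (coatom_normalizer_tU S)
  · intro M hM hPM
    have hM' : IsCoatom (M.map φ.symm.toMonoidHom) := ((MulEquiv.mapSubgroup φ.symm).isCoatom_iff _).2 hM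
    have hU : tU S ≤ M.map φ.symm.toMonoidHom := by
      intro u hu
      refine ⟨φ u, ?_, by simp⟩
      apply hPM
      rw [hP]
      exact ⟨u, hu, rfl⟩
    have h1 := unique_coatom S _ hM' hU
    rw [← h1]
    ext g
    constructor
    · intro hg
      exact ⟨φ.symm g, ⟨g, hg, rfl⟩, by simp⟩
    · rintro ⟨_, ⟨g, hg, rfl⟩, rfl⟩
      simpa using hg

end Cfsg.Agent.Lib.SuzOv
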