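import Cfsg.Agent.Lib.SuzOv.Group
import Mathlib

/-!
# Double transitivity and simplicity of the Suzuki group
-/

set_option autoImplicit false
set_option linter.unusedSimpArgs false
set_option linter.unusedVariables false

namespace Cfsg.Agent.Lib.SuzOv

open Matrix Cfsg
open scoped MatrixGroups Pointwise

variable {F : Type*} [Field F] {m : ℕ} [Fintype F] (S : SH F m)

include S

lemma tT_pinf (a b : F) : tT S a b • pinf F = pinf F := T_pinf a b

lemma tT_pt (a b x y : F) : tT S a b • pt m x y = pt m (x + a) (y + b + a ^ (2 ^ (m + 1)) * x) := T_pt S a b x y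

lemma tT_pt0 (a b : F) : tT S a b • pt m (0 : F) 0 = pt m a b := T_pt0 S a b

lemma tH_pinf (A : Fˣ) : tH S A • pinf F = pinf F := H_pinf A

lemma tH_pt (A : Fˣ) (x y : F) : tH S A • pt m x y = pt m ((A : F) * x) ((A : F) ^ (2 ^ (m + 1) + 1) * y) := H_pt S A x y

lemma tW_pinf : tW S • pinf F = pt m (0 : F) 0 := W_pinf

lemma tW_pt0 : tW S • pt m (0 : F) 0 = pinf F := W_pt0

lemma tW_pt {x y : F} (h : cs (2 ^ (m + 1)) x y ≠ 0) :
    tW S • pt m x y = pt m (y / cs (2 ^ (m + 1)) x y) (x / cs (2 ^ (m + 1)) x y) := W_pt S h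

/-- The `σ + 1`-power map has no nontrivial roots of unity. -/
lemma root_one {C : F} (h : C ^ (2 ^ (m + 1)) * C = 1) : C = 1 := by
  have hS := S.sc
  generalize (2 : ℕ) ^ (m + 1) = s at h hS
  have h1 : (C ^ s * C) ^ s = 1 := by rw [h, one_pow]
  rw [mul_pow, hS.ss] at h1
  calc C = C * (C ^ s * C) := by rw [h, mul_one]
    _ = C ^ 2 * C ^ s := by ring
    _ = 1 := h1

/-- The two-point stabiliser in group form. -/
lemma stab_two' (g : ↥(Cfsg.Sz F m)) (h1 : g • pinf F = pinf F) (h0 : g • pt m (0 : F) 0 = pt m (0 : F) 0) :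
    ∃ A : Fˣ, g = tH S A := by
  obtain ⟨A, hA⟩ := stab_two S g.1 g.2 h1 h0
  exact ⟨A, Subtype.ext hA⟩

lemma smul_mem_ovoid (g : ↥(Cfsg.Sz F m)) {p : Projectivization F (Fin 4 → F)} (hp : p ∈ Cfsg.suzukiOvoid F m) :
    g • p ∈ Cfsg.suzukiOvoid F m := (mem_Sz_iff g.1).1 g.2 _ hp

/-- Moving to the base pair. -/
lemma exists_to_base {a b : Projectivization F (Fin 4 → F)} (ha : a ∈ Cfsg.suzukiOvoid F m)
    (hb : b ∈ Cfsg.suzukiOvoid F m) (hab : a ≠ b) :
    ∃ g : ↥(Cfsg.Sz F m), g • a = pinf F ∧ g • b = pt m (0 : F) 0 := by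
  obtain ⟨g₁, h₁⟩ : ∃ g₁ : ↥(Cfsg.Sz F m), g₁ • a = pinf F := by
    rcases (mem_ovoid_iff m a).1 ha with rfl | ⟨x, y, rfl⟩
    · exact ⟨1, one_smul _ _⟩
    · refine ⟨tW S * (tT S x y)⁻¹, ?_⟩
      rw [mul_smul, inv_smul_eq_iff.2 (tT_pt0 S x y).symm, tW_pt0]
  have hb' : g₁ • b ≠ pinf F := by
    intro h
    apply hab
    rw [← h] at h₁
    exact smul_left_cancel g₁ h₁
  rcases (mem_ovoid_iff m _).1 (smul_mem_ovoid S g₁ hb) with h | ⟨x, y, h⟩
  · exact absurd h hb'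
  · refine ⟨(tT S x y)⁻¹ * g₁, ?_, ?_⟩
    · rw [mul_smul, h₁, inv_smul_eq_iff, tT_pinf]
    · rw [mul_smul, h, inv_smul_eq_iff, tT_pt0]

/-- Double transitivity. -/
lemma two_trans {a b c d : Projectivization F (Fin 4 → F)} (ha : a ∈ Cfsg.suzukiOvoid F m)
    (hb : b ∈ Cfsg.suzukiOvoid F m) (hc : c ∈ Cfsg.suzukiOvoid F m) (hd : d ∈ Cfsg.suzukiOvoid F m)
    (hab : a ≠ b) (hcd : c ≠ d) : ∃ g : ↥(Cfsg.Sz F m), g • a = c ∧ g • b = d := by
  obtain ⟨g, h1, h2⟩ := exists_to_base S ha hb hab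
  obtain ⟨k, h3, h4⟩ := exists_to_base S hc hd hcd
  refine ⟨k⁻¹ * g, ?_, ?_⟩
  · rw [mul_smul, h1, inv_smul_eq_iff, h3]
  · rw [mul_smul, h2, inv_smul_eq_iff, h4]

/-- Faithfulness on the ovoid. -/
lemma faithful (g : ↥(Cfsg.Sz F m)) (h : ∀ p ∈ Cfsg.suzukiOvoid F m, g • p = p) : g = 1 := by
  obtain ⟨A, rfl⟩ := stab_two' S g (h _ (pinf_mem m)) (h _ (pt_mem m 0 0))
  have h1 := h _ (pt_mem m (1 : F) 0)
  rw [tH_pt] at h1
  obtain ⟨h3, -⟩ := pt_inj h1
  have : A = 1 := by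
    apply Units.ext
    simpa using h3
  rw [this]
  exact (tHh S).map_one

/-- The translations form a subgroup. -/
def tU : Subgroup ↥(Cfsg.Sz F m) where
  carrier := {g | ∃ a b : F, g = tT S a b}
  one_mem' := ⟨0, 0, (tT_zero S).symm⟩
  mul_mem' := by
    rintro _ _ ⟨a, b, rfl⟩ ⟨x, y, rfl⟩
    exact ⟨_, _, tT_mul S a b x y⟩
  inv_mem' := by
    rintro _ ⟨a, b, rfl⟩
    exact ⟨_, _, tT_inv S a b⟩

lemma tT_mem_tU (a b : F) : tT S a b ∈ tU S := ⟨a, b, rfl⟩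

lemma tT_sq (a b : F) : tT S a b * tT S a b = tT S 0 (a ^ (2 ^ (m + 1)) * a) := by
  rw [tT_mul]
  have h1 : a + a = 0 := S.sc.self_add a
  have h3 : b + b + a ^ 2 ^ (m + 1) * a = a ^ 2 ^ (m + 1) * a := by
    linear_combination b * S.two
  rw [h1, h3]

lemma tT_pow_four (a b : F) : (tT S a b) ^ 4 = 1 := by
  have h1 : (tT S a b) ^ 4 = (tT S a b * tT S a b) * (tT S a b * tT S a b) := by
    simp only [pow_succ, pow_zero, one_mul, mul_assoc]
  rw [h1, tT_sq, tT_sq]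
  have h3 : (0 : F) ^ (2 ^ (m + 1)) * 0 = 0 := by simp
  rw [h3, tT_zero]

/-- Every element of the Suzuki group lies in a normal subgroup containing the translations. -/
theorem eq_top_of_normal_of_le (L : Subgroup ↥(Cfsg.Sz F m)) [hL : L.Normal] (h : tU S ≤ L) : L = ⊤ := by
  have hS := S.sc
  have h2 := S.two
  -- the swapping element
  have hT : ∀ a b : F, tT S a b ∈ L := fun a b => h (tT_mem_tU S a b)
  have hv : tW S * tT S 1 0 * (tW S)⁻¹ ∈ L := hL.conj_mem _ (hT 1 0) _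
  have hz : tT S 0 1 * (tW S * tT S 1 0 * (tW S)⁻¹) * tT S 1 1 ∈ L :=
    L.mul_mem (L.mul_mem (hT 0 1) hv) (hT 1 1)
  have hWinv : (tW S)⁻¹ = tW S := inv_eq_of_mul_eq_one_left (tW_sq S)
  rw [hWinv] at hz hv
  set z := tT S 0 1 * (tW S * tT S 1 0 * tW S) * tT S 1 1 with hzdef
  have c10 : cs (2 ^ (m + 1)) (1 : F) 0 = 1 := by
    simp [cs, hS.pos]
  have c11 : cs (2 ^ (m + 1)) (1 : F) 1 = 1 := by
    simp only [cs, one_pow, mul_one]
    linear_combination h2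
  have e1 : z • pinf F = pt m (0 : F) 0 := by
    rw [hzdef]
    simp only [mul_smul]
    rw [tT_pinf, tW_pinf, tT_pt0, tW_pt S (by rw [c10]; exact one_ne_zero), c10, tT_pt]
    have e3 : (0 : F) / 1 + 0 = 0 := by simp
    have e4 : (1 : F) / 1 + 1 + 0 ^ 2 ^ (m + 1) * (0 / 1) = 0 := by
      simp only [div_one, zero_mul, add_zero]
      linear_combination h2
    rw [e3, e4]
  have e2 : z • pt m (0 : F) 0 = pinf F := by
    rw [hzdef]
    simp only [mul_smul]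
    rw [tT_pt0, tW_pt S (by rw [c11]; exact one_ne_zero), c11, tT_pt]
    have e3 : (1 : F) / 1 + 1 = 0 := by
      simp only [div_one]
      linear_combination h2
    have e4 : (1 : F) / 1 + 0 + 1 ^ 2 ^ (m + 1) * (1 / 1) = 0 := by
      simp only [div_one, add_zero, one_pow, mul_one]
      linear_combination h2
    rw [e3, e4, tW_pt0, tT_pinf]
  obtain ⟨A₀, hA₀⟩ := stab_two' S (tW S * z)
    (by rw [mul_smul, e1, tW_pt0]) (by rw [mul_smul, e2, tW_pinf])
  have hz' : z = tW S * tH S A₀ := by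
    calc z = tW S * (tW S * z) := by rw [← mul_assoc, tW_sq, one_mul]
      _ = _ := by rw [hA₀]
  have hcomm : ∀ B : Fˣ, tH S B⁻¹ * tH S B⁻¹ ∈ L := by
    intro B
    have h3 : z * (tH S B * z⁻¹ * (tH S B)⁻¹) ∈ L := L.mul_mem hz (hL.conj_mem _ (L.inv_mem hz) _)
    have h4 : z * (tH S B * z⁻¹ * (tH S B)⁻¹) = tH S B⁻¹ * tH S B⁻¹ := by
      have hinv : ∀ X : Fˣ, (tH S X)⁻¹ = tH S X⁻¹ := fun X => ((tHh S).map_inv X).symm
      have hWH : ∀ X : Fˣ, tW S * tH S X * tW S = tH S X⁻¹ := fun X => Subtype.ext (W_H_W X)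
      rw [hz', _root_.mul_inv_rev, hWinv, hinv A₀, hinv B]
      calc tW S * tH S A₀ * (tH S B * ((tH S A₀⁻¹) * tW S) * tH S B⁻¹)
          = tW S * (tH S A₀ * tH S B * tH S A₀⁻¹) * tW S * tH S B⁻¹ := by group
        _ = tW S * tH S (A₀ * B * A₀⁻¹) * tW S * tH S B⁻¹ := by rw [tH_mul, tH_mul]
        _ = tW S * tH S B * tW S * tH S B⁻¹ := by
            congr 3
            rw [mul_comm A₀ B, mul_assoc, mul_inv_cancel, mul_one]
        _ = _ := by rw [hWH]
    rwa [h4] at h3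
  -- squares
  have hsurj : Function.Surjective (fun x : F => x ^ 2) :=
    Finite.surjective_of_injective (fun a b hab => hS.sq_inj hab)
  have hH : ∀ A : Fˣ, tH S A ∈ L := by
    intro A
    obtain ⟨C, hC⟩ := hsurj (A : F)
    have hC0 : C ≠ 0 := by
      rintro rfl
      simp only [ne_eq, OfNat.ofNat_ne_zero, not_false_eq_true, zero_pow] at hC
      exact A.ne_zero hC.symm
    have := hcomm (Units.mk0 C hC0)⁻¹
    rw [inv_inv, ← tH_mul] at this
    have hA : Units.mk0 C hC0 * Units.mk0 C hC0 = A := by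
      apply Units.ext
      simp only [Units.val_mul, Units.val_mk0]
      rw [← hC]
      ring
    rwa [hA] at this
  have hW : tW S ∈ L := by
    have : tW S = z * (tH S A₀)⁻¹ := by rw [hz', mul_inv_cancel_right]
    rw [this]
    exact L.mul_mem hz (L.inv_mem (hH A₀))
  rw [eq_top_iff]
  intro g _
  rcases bruhat S g.1 g.2 with ⟨a, b, A, hg⟩ | ⟨a, b, a', b', A, hg⟩
  · have : g = tT S a b * tH S A := Subtype.ext hg
    rw [this]
    exact L.mul_mem (hT a b) (hH A)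
  · have : g = tT S a b * tW S * (tT S a' b' * tH S A) := Subtype.ext hg
    rw [this]
    exact L.mul_mem (L.mul_mem (hT a b) hW) (L.mul_mem (hT a' b') (hH A))

/-- Simplicity of the Suzuki group. -/
theorem isSimple : IsSimpleGroup ↥(Cfsg.Sz F m) := by
  classical
  have hS := S.sc
  have h2 := S.two
  haveI hnt : Nontrivial ↥(Cfsg.Sz F m) := by
    refine ⟨⟨tT S 1 0, 1, ?_⟩⟩
    intro h
    rw [← tT_zero S] at h
    have := T_inj S (congrArg Subtype.val h)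
    exact one_ne_zero this.1
  refine ⟨?_⟩
  intro N hN
  by_cases hbot : N = ⊥
  · exact Or.inl hbot
  refine Or.inr ?_
  -- N is transitive
  obtain ⟨n₀, hn₀, hn₁⟩ : ∃ n ∈ N, n ≠ 1 := by
    by_contra hcon
    push_neg at hcon
    exact hbot ((Subgroup.eq_bot_iff_forall N).2 hcon)
  obtain ⟨a, ha, hmove⟩ : ∃ a ∈ Cfsg.suzukiOvoid F m, n₀ • a ≠ a := by
    by_contra hcon
    push_neg at hcon
    exact hn₁ (faithful S n₀ hcon)
  have htrans : ∀ p ∈ Cfsg.suzukiOvoid F m, ∃ n ∈ N, n • pinf F = p := by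
    intro p hp
    by_cases hpinf : p = pinf F
    · exact ⟨1, N.one_mem, by rw [one_smul, hpinf]⟩
    obtain ⟨g, h3, h4⟩ := two_trans S ha (smul_mem_ovoid S n₀ ha) (pinf_mem m) hp (Ne.symm hmove) (Ne.symm hpinf)
    refine ⟨g * n₀ * g⁻¹, hN.conj_mem _ hn₀ _, ?_⟩
    rw [mul_smul, mul_smul, inv_smul_eq_iff.2 h3.symm, h4]
  -- every element is a product
  have hfact : ∀ g : ↥(Cfsg.Sz F m), ∃ n ∈ N, ∃ (a b : F) (A : Fˣ), g = n * (tT S a b * tH S A) := by
    intro g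
    obtain ⟨n, hn, hng⟩ := htrans _ (smul_mem_ovoid S g (pinf_mem m))
    have h3 : (n⁻¹ * g) • pinf F = pinf F := by
      rw [mul_smul, inv_smul_eq_iff, hng]
    obtain ⟨a, b, A, hab⟩ := borel S (n⁻¹ * g).1 (n⁻¹ * g).2 h3
    refine ⟨n, hn, a, b, A, ?_⟩
    have : n⁻¹ * g = tT S a b * tH S A := Subtype.ext hab
    rw [← this, mul_inv_cancel_left]
  -- the quotient
  let π : ↥(Cfsg.Sz F m) →* (↥(Cfsg.Sz F m) ⧸ N) := QuotientGroup.mk' N
  have hπ1 : ∀ n ∈ N, π n = 1 := fun n hn => (QuotientGroup.eq_one_iff n).2 hn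
  let R : Subgroup (↥(Cfsg.Sz F m) ⧸ N) := (tU S).map π
  haveI hRn : R.Normal := by
    refine ⟨?_⟩
    rintro _ ⟨u, ⟨x, y, rfl⟩, rfl⟩ q
    obtain ⟨g, rfl⟩ := QuotientGroup.mk'_surjective N q
    obtain ⟨n, hn, a, b, A, rfl⟩ := hfact g
    refine ⟨(tT S a b * tH S A) * tT S x y * (tT S a b * tH S A)⁻¹, ?_, ?_⟩
    · have h4 : (tT S a b * tH S A) * tT S x y * (tT S a b * tH S A)⁻¹ =
          tT S a b * (tH S A * tT S x y * (tH S A)⁻¹) * (tT S a b)⁻¹ := by group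
      rw [h4, tH_T_H]
      exact (tU S).mul_mem ((tU S).mul_mem (tT_mem_tU S a b) (tT_mem_tU S _ _)) ((tU S).inv_mem (tT_mem_tU S a b))
    · change π _ = π _ * π _ * (π _)⁻¹
      rw [map_mul π n, hπ1 n hn, one_mul]
      simp only [map_mul, map_inv]
  have hall : ∀ g : ↥(Cfsg.Sz F m), ∃ a b : F, π g = π (tT S a b) := by
    have hL := eq_top_of_normal_of_le S (R.comap π) (fun u hu => ⟨u, hu, rfl⟩)
    intro g
    have hg : g ∈ R.comap π := by rw [hL]; trivial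
    obtain ⟨u, ⟨a, b, rfl⟩, hu⟩ := hg
    exact ⟨a, b, hu.symm⟩
  have h4th : ∀ g : ↥(Cfsg.Sz F m), g ^ 4 ∈ N := by
    intro g
    obtain ⟨a, b, hab⟩ := hall g
    have : π (g ^ 4) = 1 := by
      rw [map_pow, hab, ← map_pow, tT_pow_four, map_one]
    exact (QuotientGroup.eq_one_iff _).1 this
  have hsurj : Function.Surjective (fun x : F => x ^ 2) :=
    Finite.surjective_of_injective (fun a b hab => hS.sq_inj hab)
  have hH : ∀ A : Fˣ, tH S A ∈ N := by
    intro A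
    obtain ⟨C, hC⟩ := hsurj (A : F)
    obtain ⟨D, hD⟩ := hsurj C
    have hD0 : D ≠ 0 := by
      rintro rfl
      simp only [ne_eq, OfNat.ofNat_ne_zero, not_false_eq_true, zero_pow] at hD
      subst hD
      simp only [ne_eq, OfNat.ofNat_ne_zero, not_false_eq_true, zero_pow] at hC
      exact A.ne_zero hC.symm
    have := h4th (tH S (Units.mk0 D hD0))
    have h5 : (tH S (Units.mk0 D hD0)) ^ 4 = tH S A := by
      have h6 : (Units.mk0 D hD0) ^ 4 = A := by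
        apply Units.ext
        simp only [Units.val_pow_eq_pow_val, Units.val_mk0]
        rw [← hC, ← hD]
        ring
      rw [← h6]
      exact ((tHh S).map_pow _ 4).symm
    rwa [h5] at this
  -- a nontrivial torus element
  obtain ⟨C, hC⟩ : ∃ C : Fˣ, (C : F) ≠ 1 := by
    by_contra hcon
    push_neg at hcon
    have h5 : Fintype.card Fˣ = 1 := by
      rw [Fintype.card_eq_one_iff]
      exact ⟨1, fun C => Units.ext (hcon C)⟩
    rw [Fintype.card_units, S.hF] at h5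
    have h6 : 2 ^ (2 * m + 1) ≥ 2 ^ 3 := Nat.pow_le_pow_right (by norm_num) (by have := S.hm; omega)
    omega
  have hcomm : ∀ u : ↥(Cfsg.Sz F m), tH S C * u * (tH S C)⁻¹ * u⁻¹ ∈ N := by
    intro u
    have h3 : tH S C * (u * (tH S C)⁻¹ * u⁻¹) ∈ N := N.mul_mem (hH C) (hN.conj_mem _ (N.inv_mem (hH C)) _)
    have h4 : tH S C * u * (tH S C)⁻¹ * u⁻¹ = tH S C * (u * (tH S C)⁻¹ * u⁻¹) := by group
    rwa [h4]
  have hc1 : (C : F) ^ (2 ^ (m + 1) + 1) + 1 ≠ 0 := by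
    intro h
    apply hC
    apply root_one S
    rw [pow_succ] at h
    linear_combination h - h2
  have hc2 : (C : F) + 1 ≠ 0 := by
    intro h
    apply hC
    linear_combination h - h2
  have hz : ∀ y : F, tT S 0 y ∈ N := by
    intro y
    have h3 := hcomm (tT S 0 (y / ((C : F) ^ (2 ^ (m + 1) + 1) + 1)))
    rw [tH_T_H, tT_inv, tT_mul] at h3
    have e1 : (C : F) * 0 + 0 = 0 := by simp
    have e2 : (C : F) ^ (2 ^ (m + 1) + 1) * (y / ((C : F) ^ (2 ^ (m + 1) + 1) + 1)) +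
        (y / ((C : F) ^ (2 ^ (m + 1) + 1) + 1) + 0 * 0 ^ 2 ^ (m + 1)) +
        ((C : F) * 0) ^ 2 ^ (m + 1) * 0 = y := by
      have e3 : ((C : F) * 0) ^ 2 ^ (m + 1) * 0 = 0 := by simp
      rw [e3]
      field_simp
      ring
    rwa [e1, e2] at h3
  have hu : ∀ a b : F, tT S a b ∈ N := by
    intro a b
    have h3 := hcomm (tT S (a / ((C : F) + 1)) 0)
    rw [tH_T_H, tT_inv, tT_mul] at h3
    have e1 : (C : F) * (a / ((C : F) + 1)) + a / ((C : F) + 1) = a := by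
      field_simp
    rw [e1] at h3
    generalize ((C : F) ^ (2 ^ (m + 1) + 1) * 0 + (0 + a / ((C : F) + 1) * (a / ((C : F) + 1)) ^ 2 ^ (m + 1))
      + ((C : F) * (a / ((C : F) + 1))) ^ 2 ^ (m + 1) * (a / ((C : F) + 1))) = w at h3
    have h5 := N.mul_mem h3 (hz (b + w))
    rw [tT_mul] at h5
    have e2 : a + 0 = a := by simp
    have e3 : w + (b + w) + a ^ 2 ^ (m + 1) * 0 = b := by
      linear_combination w * h2
    rwa [e2, e3] at h5
  rw [eq_top_iff]
  intro g _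
  obtain ⟨a, b, hab⟩ := hall g
  have : π g = 1 := by rw [hab]; exact hπ1 _ (hu a b)
  exact (QuotientGroup.eq_one_iff _).1 this

end Cfsg.Agent.Lib.SuzOv
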