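import Cfsg.Agent.Lib.SuzOv.Elements
import Mathlib

/-!
# The two-point stabiliser of the Suzuki group is the torus
-/

set_option autoImplicit false
set_option linter.unusedSimpArgs false
set_option linter.unusedVariables false

namespace Cfsg.Agent.Lib.SuzOv

open Matrix Cfsg Polynomial
open scoped MatrixGroups Pointwise

variable {F : Type*} [Field F] {m : ℕ} [Fintype F] (S : SH F m)

include S

lemma SH.s_ge : 4 ≤ 2 ^ (m + 1) := by
  have h1 := S.hm
  calc 4 = 2 ^ 2 := by norm_num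
    _ ≤ 2 ^ (m + 1) := Nat.pow_le_pow_right (by norm_num) (by omega)

lemma SH.s_lt : 2 ^ (m + 1) + 2 < Fintype.card F := by
  have h1 := S.s_ge
  rw [S.hF]
  have h3 : 2 ^ (2 * m + 1) = 2 ^ (m + 1) * 2 ^ m := by
    rw [← pow_add]
    congr 1
    ring
  rw [h3]
  have h4 : 2 ≤ 2 ^ m := by
    calc 2 = 2 ^ 1 := by norm_num
      _ ≤ 2 ^ m := Nat.pow_le_pow_right (by norm_num) S.hm
  nlinarith

/-- A sparse polynomial function that vanishes everywhere has zero coefficients. -/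
lemma poly_vanish (a b d f : F)
    (h : ∀ x : F, a * (x ^ (2 ^ (m + 1)) * x ^ 2) + b * x ^ (2 ^ (m + 1)) + d * x ^ 2 + f * x = 0) :
    a = 0 ∧ b = 0 ∧ d = 0 ∧ f = 0 := by
  classical
  have hs := S.s_ge
  have hlt := S.s_lt
  generalize (2 : ℕ) ^ (m + 1) = s at h hs hlt
  let p : F[X] := C a * X ^ (s + 2) + C b * X ^ s + C d * X ^ 2 + C f * X
  have hdeg : p.natDegree < (Finset.univ : Finset F).card := by
    rw [Finset.card_univ]
    refine lt_of_le_of_lt ?_ hlt
    simp only [p]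
    compute_degree
  have hp : p = 0 := Polynomial.eq_zero_of_natDegree_lt_card_of_eval_eq_zero' p Finset.univ (by
    intro x _
    simp only [p, eval_add, eval_mul, eval_C, eval_pow, eval_X]
    rw [pow_add]
    exact h x) hdeg
  have n1 : s + 2 ≠ s := by omega
  have n2 : s + 2 ≠ 2 := by omega
  have n3 : 1 ≠ s + 2 := by omega
  have n4 : s ≠ 2 := by omega
  have n5 : 1 ≠ s := by omega
  have n6 : s ≠ s + 2 := by omega
  have n7 : 2 ≠ s + 2 := by omega
  have n8 : 2 ≠ s := by omega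
  have n9 : s + 2 ≠ 1 := by omega
  have n10 : s ≠ 1 := by omega
  have hs0 : s ≠ 0 := by omega
  have e1 : p.coeff (s + 2) = a := by
    simp [p, coeff_add, coeff_C_mul, coeff_X_pow, coeff_X, coeff_C, n1, n2, n3, hs0]
  have e2 : p.coeff s = b := by
    simp [p, coeff_add, coeff_C_mul, coeff_X_pow, coeff_X, coeff_C, n4, n5, n6, hs0]
  have e3 : p.coeff 2 = d := by
    simp [p, coeff_add, coeff_C_mul, coeff_X_pow, coeff_X, coeff_C, n7, n8, hs0]
  have e4 : p.coeff 1 = f := by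
    simp [p, coeff_add, coeff_C_mul, coeff_X_pow, coeff_X, coeff_C, n3, n5, hs0]
  rw [hp] at e1 e2 e3 e4
  simp only [coeff_zero] at e1 e2 e3 e4
  exact ⟨e1.symm, e2.symm, e3.symm, e4.symm⟩

/-- The core functional equation. -/
lemma key_eqn {A B C' D E P R : F}
    (key : ∀ x y : F, E * cs (2 ^ (m + 1)) x y + P * y + R * x = cs (2 ^ (m + 1)) (A * x + B * y) (C' * x + D * y)) :
    B = 0 ∧ C' = 0 ∧ P = 0 ∧ R = 0 ∧ E = A ^ (2 ^ (m + 1)) * A ^ 2 ∧ E = A * D := by
  have hS := S.sc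
  have van := poly_vanish S
  generalize (2 : ℕ) ^ (m + 1) = s at key hS van
  have hz : (0 : F) ^ s = 0 := zero_pow hS.pos
  have h1 : ∀ x : F, (E + A ^ s * A ^ 2) * (x ^ s * x ^ 2) + C' ^ s * x ^ s + (A * C') * x ^ 2 + R * x = 0 := by
    intro x
    have := key x 0
    simp only [cs, mul_zero, add_zero, zero_add, hz] at this
    rw [mul_pow, mul_pow, mul_pow] at this
    linear_combination this + (A * x * (C' * x) + A ^ s * x ^ s * (A ^ 2 * x ^ 2) + C' ^ s * x ^ s) * hS.two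
  have h3 : ∀ y : F, (B ^ s * B ^ 2) * (y ^ s * y ^ 2) + (E + D ^ s) * y ^ s + (B * D) * y ^ 2 + P * y = 0 := by
    intro y
    have := key 0 y
    simp only [cs, mul_zero, add_zero, zero_add, hz, zero_mul] at this
    rw [mul_pow, mul_pow, mul_pow] at this
    linear_combination this + (B * y * (D * y) + B ^ s * y ^ s * (B ^ 2 * y ^ 2) + D ^ s * y ^ s) * hS.two
  obtain ⟨a1, a2, a3, a4⟩ := van _ _ _ _ h1
  obtain ⟨b1, b2, b3, b4⟩ := van _ _ _ _ h3
  have hC : C' = 0 := pow_eq_zero_iff hS.pos |>.1 a2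
  have hB : B = 0 := by
    rcases mul_eq_zero.1 b1 with h | h
    · exact pow_eq_zero_iff hS.pos |>.1 h
    · exact pow_eq_zero_iff two_ne_zero |>.1 h
  have e1 : E = A ^ s * A ^ 2 := by linear_combination a1 - (A ^ s * A ^ 2) * hS.two
  have e2 : E = D ^ s := by linear_combination b2 - (D ^ s) * hS.two
  refine ⟨hB, hC, b4, a4, e1, ?_⟩
  have := key 1 1
  simp only [cs, one_pow, mul_one, add_zero, hB, hC, zero_mul, zero_add, a4, b4] at this
  rw [← e1, ← e2] at this
  linear_combination this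

omit S in
lemma col_vinf (g : SL(4, F)) (i : Fin 4) : (g • (vinf : Fin 4 → F)) i = (g : Matrix (Fin 4) (Fin 4) F) i 0 := by
  rw [smul_vec]
  simp [vinf, Matrix.mulVec, dotProduct, Fin.sum_univ_four]

omit S in
lemma col_ov (g : SL(4, F)) (x y : F) (i : Fin 4) :
    (g • ov m x y) i = (g : Matrix (Fin 4) (Fin 4) F) i 0 * cs (2 ^ (m + 1)) x y
      + (g : Matrix (Fin 4) (Fin 4) F) i 1 * y + (g : Matrix (Fin 4) (Fin 4) F) i 2 * x
      + (g : Matrix (Fin 4) (Fin 4) F) i 3 := by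
  rw [smul_vec, ov_eq]
  simp [Matrix.mulVec, dotProduct, Fin.sum_univ_four]

/-- An element of the Suzuki group fixing both base points is in the torus. -/
theorem stab_two (g : SL(4, F)) (hg : g ∈ Cfsg.Sz F m) (h1 : g • pinf F = pinf F) (h0 : g • pt m 0 0 = pt m (0 : F) 0) :
    ∃ A : Fˣ, g = H m A := by
  classical
  have hS := S.sc
  set M : Matrix (Fin 4) (Fin 4) F := (g : Matrix (Fin 4) (Fin 4) F) with hM
  have h1' := h1
  -- columns
  rw [smul_pinf, pinf, Projectivization.mk_eq_mk_iff] at h1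
  obtain ⟨a, ha⟩ := h1
  rw [smul_pt, pt, Projectivization.mk_eq_mk_iff] at h0
  obtain ⟨d, hd⟩ := h0
  have c0 : ∀ i, M i 0 = ((a : Fˣ) : F) * vinf i := by
    intro i
    have := congrFun ha i
    rw [Units.smul_def, Pi.smul_apply, col_vinf] at this
    simpa using this.symm
  have c3 : ∀ i, M i 3 = ((d : Fˣ) : F) * ov m (0 : F) 0 i := by
    intro i
    have := congrFun hd i
    rw [Units.smul_def, Pi.smul_apply] at this
    have e := col_ov (m := m) g (0 : F) 0 i
    rw [← this] at e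
    simp only [mul_zero, add_zero] at e
    have ez : cs (2 ^ (m + 1)) (0 : F) 0 = 0 := by
      simp only [cs, mul_zero, zero_pow hS.pos, add_zero, zero_add, zero_mul]
    rw [ez, mul_zero, zero_add] at e
    simpa using e.symm
  have hα : ((a : Fˣ) : F) ≠ 0 := a.ne_zero
  have hδ : ((d : Fˣ) : F) ≠ 0 := d.ne_zero
  generalize ((a : Fˣ) : F) = α at c0 hα
  have hov3 : ov m (0 : F) 0 3 = 1 := by simp [ov]
  have hov0 : ov m (0 : F) 0 0 = 0 := by simp [ov, hS.pos]
  have hov1 : ov m (0 : F) 0 1 = 0 := by simp [ov]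
  have hov2 : ov m (0 : F) 0 2 = 0 := by simp [ov]
  have e00 : M 0 0 = α := by simpa [vinf] using c0 0
  have e10 : M 1 0 = 0 := by simpa [vinf] using c0 1
  have e20 : M 2 0 = 0 := by simpa [vinf] using c0 2
  have e30 : M 3 0 = 0 := by simpa [vinf] using c0 3
  have e03 : M 0 3 = 0 := by rw [c3, hov0, mul_zero]
  have e13 : M 1 3 = 0 := by rw [c3, hov1, mul_zero]
  have e23 : M 2 3 = 0 := by rw [c3, hov2, mul_zero]
  have e33 : M 3 3 = ((d : Fˣ) : F) := by rw [c3, hov3, mul_one]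
  generalize hδd : ((d : Fˣ) : F) = δ at e33 hδ
  -- general points
  have hpoint : ∀ x y : F, ∃ (x' y' : F) (t : Fˣ), t • ov m x' y' = g • ov m x y := by
    intro x y
    have hmem : g • pt m x y ∈ Cfsg.suzukiOvoid F m := (mem_Sz_iff g).1 hg _ (pt_mem m x y)
    rcases (mem_ovoid_iff m _).1 hmem with h | ⟨x', y', h⟩
    · exfalso
      have h5 : g • pt m x y = g • pinf F := by rw [h, h1']
      exact pt_ne_pinf m x y (smul_left_cancel g h5)
    · rw [smul_pt, pt, Projectivization.mk_eq_mk_iff] at h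
      obtain ⟨t, ht⟩ := h
      exact ⟨x', y', t, ht⟩
  have hcoord : ∀ (x y x' y' : F) (t : Fˣ), t • ov m x' y' = g • ov m x y →
      (t : F) = M 3 1 * y + M 3 2 * x + δ ∧ (t : F) * y' = M 1 1 * y + M 1 2 * x ∧
      (t : F) * x' = M 2 1 * y + M 2 2 * x ∧
      (t : F) * cs (2 ^ (m + 1)) x' y' = α * cs (2 ^ (m + 1)) x y + M 0 1 * y + M 0 2 * x := by
    intro x y x' y' t ht
    have h3 := congrFun ht 3
    have h4 := congrFun ht 1
    have h5 := congrFun ht 2
    have h6 := congrFun ht 0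
    rw [col_ov] at h3 h4 h5 h6
    rw [Units.smul_def, Pi.smul_apply, ov_eq] at h3 h4 h5 h6
    simp only [← hM, e00, e10, e20, e30, e03, e13, e23, e33, zero_mul, zero_add, add_zero] at h3 h4 h5 h6
    simp at h3 h4 h5 h6
    refine ⟨by rw [h3], ?_, ?_, ?_⟩
    · rw [h4]
    · rw [h5]
    · rw [h6]
  have hne : ∀ x y : F, M 3 1 * y + M 3 2 * x + δ ≠ 0 := by
    intro x y
    obtain ⟨x', y', t, ht⟩ := hpoint x y
    rw [← (hcoord x y x' y' t ht).1]
    exact t.ne_zero
  have e31 : M 3 1 = 0 := by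
    by_contra h5
    apply hne 0 (δ / M 3 1)
    rw [mul_div_cancel₀ _ h5, mul_zero, add_zero]
    exact hS.self_add δ
  have e32 : M 3 2 = 0 := by
    by_contra h5
    apply hne (δ / M 3 2) 0
    rw [mul_div_cancel₀ _ h5, mul_zero, zero_add]
    exact hS.self_add δ
  have key : ∀ x y : F, (α / δ) * cs (2 ^ (m + 1)) x y + (M 0 1 / δ) * y + (M 0 2 / δ) * x =
      cs (2 ^ (m + 1)) ((M 2 2 / δ) * x + (M 2 1 / δ) * y) ((M 1 2 / δ) * x + (M 1 1 / δ) * y) := by
    intro x y
    obtain ⟨x', y', t, ht⟩ := hpoint x y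
    obtain ⟨k1, k2, k3, k4⟩ := hcoord x y x' y' t ht
    rw [e31, e32, zero_mul, zero_mul, zero_add, zero_add] at k1
    rw [k1] at k2 k3 k4
    have hx : x' = (M 2 2 / δ) * x + (M 2 1 / δ) * y := by
      field_simp
      linear_combination k3
    have hy : y' = (M 1 2 / δ) * x + (M 1 1 / δ) * y := by
      field_simp
      linear_combination k2
    rw [← hx, ← hy]
    field_simp
    linear_combination -k4
  obtain ⟨hB, hC, hP, hR, hE1, hE2⟩ := key_eqn S key
  have e21 : M 2 1 = 0 := by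
    rcases div_eq_zero_iff.1 hB with h | h
    · exact h
    · exact absurd h hδ
  have e12 : M 1 2 = 0 := by
    rcases div_eq_zero_iff.1 hC with h | h
    · exact h
    · exact absurd h hδ
  have e01 : M 0 1 = 0 := by
    rcases div_eq_zero_iff.1 hP with h | h
    · exact h
    · exact absurd h hδ
  have e02 : M 0 2 = 0 := by
    rcases div_eq_zero_iff.1 hR with h | h
    · exact h
    · exact absurd h hδ
  generalize hAdef : M 2 2 / δ = A at hE1 hE2
  generalize hDdef : M 1 1 / δ = D at hE2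
  have e22 : M 2 2 = A * δ := by rw [← hAdef]; field_simp
  have e11 : M 1 1 = D * δ := by rw [← hDdef]; field_simp
  have hEne : α / δ ≠ 0 := div_ne_zero hα hδ
  have hA : A ≠ 0 := by
    rintro rfl
    rw [zero_mul] at hE2
    exact hEne hE2
  have e00' : α = (α / δ) * δ := by field_simp
  generalize α / δ = E at hE1 hE2 hEne e00'
  have hD : D = A ^ (2 ^ (m + 1)) * A := by
    apply mul_left_cancel₀ hA
    rw [← hE2, hE1]
    ring
  -- the determinant
  have hdet : M.det = 1 := g.2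
  rw [det_four] at hdet
  simp only [e00, e01, e02, e03, e10, e11, e12, e13, e20, e21, e22, e23, e30, e31, e32, e33, zero_mul, mul_zero,
    sub_zero, zero_sub, add_zero, neg_zero, sub_self] at hdet
  rw [e00', hE1, hD] at hdet
  have hs2 : (2 : ℕ) ^ (m + 1) = 2 * 2 ^ m := by ring
  rw [hs2] at hdet hE1 hD
  have hu4 : ((A ^ (2 ^ m + 1) * δ) ^ 2) ^ 2 = 1 ^ 2 := by
    linear_combination hdet
  have hu2 : (A ^ (2 ^ m + 1) * δ) ^ 2 = 1 ^ 2 := by
    rw [hS.sq_inj hu4, one_pow]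
  have hu : A ^ (2 ^ m + 1) * δ = 1 := hS.sq_inj hu2
  have v00 : M 0 0 = A ^ (2 ^ m + 1) := by
    rw [e00, e00', hE1]
    linear_combination (A ^ (2 ^ m + 1)) * hu
  have v11 : M 1 1 = A ^ (2 ^ m) := by
    rw [e11, hD]
    linear_combination (A ^ (2 ^ m)) * hu
  have hδ' : δ = (A⁻¹) ^ (2 ^ m + 1) := by
    have h5 : (A⁻¹) ^ (2 ^ m + 1) * (A ^ (2 ^ m + 1) * δ) = δ := by
      rw [← mul_assoc, ← mul_pow, inv_mul_cancel₀ hA, one_pow, one_mul]
    rw [hu, mul_one] at h5
    exact h5.symm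
  have v22 : M 2 2 = (A⁻¹) ^ (2 ^ m) := by
    rw [e22, hδ', pow_succ, mul_comm, mul_assoc, inv_mul_cancel₀ hA, mul_one]
  have v33 : M 3 3 = (A⁻¹) ^ (2 ^ m + 1) := by
    rw [e33, hδ']
  refine ⟨Units.mk0 A hA, ?_⟩
  apply Subtype.ext
  rw [H_coe]
  change M = _
  ext i j
  fin_cases i <;> fin_cases j <;> simp [dg, Matrix.diagonal_apply, e01, e02, e03, e10, e12, e13, e20, e21, e23, e30, e31, e32, v00, v11, v22, v33]

end Cfsg.Agent.Lib.SuzOv
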