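import Cfsg.Agent.Lib.SuzOv.Simple
import Mathlib

/-!
# The Sylow 2-subgroup of the Suzuki group
-/

set_option autoImplicit false
set_option linter.unusedSimpArgs false
set_option linter.unusedVariables false

namespace Cfsg.Agent.Lib.SuzOv

open Matrix Cfsg
open scoped MatrixGroups Pointwise commutatorElement

variable {F : Type*} [Field F] {m : ℕ} [Fintype F] (S : SH F m)

include S

lemma tT_inj {a b x y : F} (h : tT S a b = tT S x y) : a = x ∧ b = y := T_inj S (congrArg Subtype.val h)

lemma tT_eq_one_iff {a b : F} : tT S a b = 1 ↔ a = 0 ∧ b = 0 := by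
  constructor
  · intro h
    rw [← tT_zero S] at h
    exact tT_inj S h
  · rintro ⟨rfl, rfl⟩
    exact tT_zero S

lemma card_tU : Nat.card (tU S) = Fintype.card F ^ 2 := by
  classical
  let φ : F × F → tU S := fun t => ⟨tT S t.1 t.2, tT_mem_tU S _ _⟩
  have hφ : Function.Bijective φ := by
    constructor
    · rintro ⟨a, b⟩ ⟨x, y⟩ h
      obtain ⟨rfl, rfl⟩ := tT_inj S (congrArg Subtype.val h)
      rfl
    · rintro ⟨_, a, b, rfl⟩
      exact ⟨⟨a, b⟩, rfl⟩
  rw [← Nat.card_congr (Equiv.ofBijective φ hφ), Nat.card_eq_fintype_card, Fintype.card_prod]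
  ring

omit S in
lemma factorization_two {a b : ℕ} (hb : ¬ 2 ∣ b) (hb0 : b ≠ 0) : (2 ^ a * b).factorization 2 = a := by
  rw [Nat.factorization_mul (by positivity) hb0, Nat.prime_two.factorization_pow]
  simp [Nat.factorization_eq_zero_of_not_dvd hb]

/-- The order of the group in terms of its two-part. -/
lemma card_split : Nat.card ↥(Cfsg.Sz F m) = 2 ^ (2 * (2 * m + 1)) * ((Fintype.card F ^ 2 + 1) * (Fintype.card F - 1)) := by
  have h : 2 ^ (2 * (2 * m + 1)) = Fintype.card F ^ 2 := by
    rw [S.hF, ← pow_mul, mul_comm]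
  rw [card_Sz S, h]
  ring

lemma odd_part : ¬ 2 ∣ (Fintype.card F ^ 2 + 1) * (Fintype.card F - 1) := by
  rw [S.hF]
  intro h
  have h1 : ∃ k, 2 ^ (2 * m + 1) = 2 * k ∧ 0 < k := ⟨2 ^ (2 * m), by rw [pow_succ]; ring, by positivity⟩
  obtain ⟨k, hk, hk0⟩ := h1
  rw [hk] at h
  rcases Nat.prime_two.dvd_mul.1 h with h | h
  · have : (2 * k) ^ 2 = 2 * (2 * k ^ 2) := by ring
    rw [this] at h
    omega
  · omega

/-- The translation group is Sylow. -/
noncomputable def sylU : Sylow 2 ↥(Cfsg.Sz F m) :=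
  haveI : Fact (Nat.Prime 2) := ⟨Nat.prime_two⟩
  Sylow.ofCard (tU S) (by
    rw [card_tU S, card_split S, factorization_two (odd_part S) (fun h => odd_part S (h ▸ dvd_zero 2)),
      S.hF, ← pow_mul, mul_comm])

lemma sylU_coe : ((sylU S : Sylow 2 ↥(Cfsg.Sz F m)) : Subgroup ↥(Cfsg.Sz F m)) = tU S := rfl

/-- The elements of the abstract translation group. -/
def uu (a b : F) : tU S := ⟨tT S a b, tT_mem_tU S a b⟩

lemma uu_mul (a b x y : F) : uu S a b * uu S x y = uu S (a + x) (b + y + a ^ (2 ^ (m + 1)) * x) :=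
  Subtype.ext (tT_mul S a b x y)

lemma uu_surj (u : tU S) : ∃ a b : F, u = uu S a b := by
  obtain ⟨_, a, b, rfl⟩ := u
  exact ⟨a, b, rfl⟩

lemma uu_inj {a b x y : F} (h : uu S a b = uu S x y) : a = x ∧ b = y :=
  tT_inj S (congrArg Subtype.val h)

lemma uu_one : uu S (0 : F) 0 = 1 := Subtype.ext (tT_zero S)

lemma uu_pow_four (u : tU S) : u ^ 4 = 1 := by
  obtain ⟨a, b, rfl⟩ := uu_surj S u
  exact Subtype.ext (tT_pow_four S a b)

lemma uu_sq (a b : F) : uu S a b ^ 2 = uu S 0 (a ^ (2 ^ (m + 1)) * a) := by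
  rw [sq]
  exact Subtype.ext (tT_sq S a b)

/-- `σ` is not the identity map. -/
lemma exists_s_ne : ∃ t : F, t ^ (2 ^ (m + 1)) + t ≠ 0 := by
  by_contra hcon
  push_neg at hcon
  have := poly_vanish S 0 1 0 1 (by
    intro x
    have := hcon x
    linear_combination this)
  exact one_ne_zero this.2.1

/-- The `σ + 1`-power map is bijective on nonzero elements. -/
lemma exists_pow_eq {b : F} (hb : b ≠ 0) : ∃ a : F, a ^ (2 ^ (m + 1)) * a = b := by
  classical
  let f : Fˣ → Fˣ := fun A => A ^ (2 ^ (m + 1)) * A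
  have hf : Function.Injective f := by
    intro A B hAB
    have h1 : (A * B⁻¹) ^ (2 ^ (m + 1)) * (A * B⁻¹) = 1 := by
      have : f A * (f B)⁻¹ = 1 := by rw [hAB, mul_inv_cancel]
      simp only [f] at this
      rw [← this, mul_pow, inv_pow, mul_mul_mul_comm, ← mul_inv]
    have h3 : ((A * B⁻¹ : Fˣ) : F) = 1 := by
      apply root_one S
      have := congrArg (fun z : Fˣ => (z : F)) h1
      simpa using this
    have h4 : A * B⁻¹ = 1 := Units.ext h3
    exact mul_inv_eq_one.1 h4
  obtain ⟨A, hA⟩ := (Finite.surjective_of_injective hf) (Units.mk0 b hb)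
  refine ⟨A, ?_⟩
  have := congrArg (fun z : Fˣ => (z : F)) hA
  simpa [f] using this

/-- Commutators in the translation group. -/
lemma uu_comm (a c x y : F) : ⁅uu S a c, uu S x y⁆ = uu S 0 (a ^ (2 ^ (m + 1)) * x + x ^ (2 ^ (m + 1)) * a) := by
  have hS := S.sc
  rw [commutatorElement_def]
  have h1 : uu S a c * uu S x y = uu S 0 (a ^ (2 ^ (m + 1)) * x + x ^ (2 ^ (m + 1)) * a) * (uu S x y * uu S a c) := by
    rw [uu_mul, uu_mul, uu_mul]
    congr 1
    · simp only [zero_add]
      ring
    · rw [zero_pow hS.pos, zero_mul, add_zero]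
      linear_combination (- x ^ (2 ^ (m + 1)) * a) * S.two
  rw [h1]
  group

lemma mem_center_iff (a b : F) : uu S a b ∈ Subgroup.center (tU S) ↔ a = 0 := by
  have hS := S.sc
  constructor
  · intro h
    by_contra ha
    obtain ⟨t, ht⟩ := exists_s_ne S
    have h1 := Subgroup.mem_center_iff.1 h (uu S (a * t) 0)
    rw [uu_mul, uu_mul] at h1
    obtain ⟨-, h3⟩ := uu_inj S h1
    apply ht
    have h4 : a ^ (2 ^ (m + 1)) * a * (t ^ (2 ^ (m + 1)) + t) = 0 := by
      rw [mul_pow] at h3
      linear_combination h3 + (a ^ (2 ^ (m + 1)) * a * t) * S.two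
    rcases mul_eq_zero.1 h4 with h5 | h5
    · exfalso
      rcases mul_eq_zero.1 h5 with h6 | h6
      · exact ha (pow_eq_zero_iff hS.pos |>.1 h6)
      · exact ha h6
    · exact h5
  · rintro rfl
    rw [Subgroup.mem_center_iff]
    intro u
    obtain ⟨x, y, rfl⟩ := uu_surj S u
    rw [uu_mul, uu_mul]
    congr 1
    · ring
    · rw [zero_pow hS.pos, zero_mul, mul_zero]
      ring

lemma center_eq_commutator : Subgroup.center (tU S) = commutator (tU S) := by
  have hS := S.sc
  apply le_antisymm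
  · intro u hu
    obtain ⟨a, b, rfl⟩ := uu_surj S u
    obtain rfl := (mem_center_iff S a b).1 hu
    by_cases hb : b = 0
    · subst hb
      rw [uu_one]
      exact Subgroup.one_mem _
    obtain ⟨t, ht⟩ := exists_s_ne S
    obtain ⟨c, hc⟩ := exists_pow_eq S (div_ne_zero hb ht)
    have h1 := uu_comm S c 0 (c * t) 0
    have h3 : c ^ (2 ^ (m + 1)) * (c * t) + (c * t) ^ (2 ^ (m + 1)) * c = b := by
      rw [mul_pow]
      calc c ^ (2 ^ (m + 1)) * (c * t) + c ^ (2 ^ (m + 1)) * t ^ (2 ^ (m + 1)) * c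
          = (c ^ (2 ^ (m + 1)) * c) * (t ^ (2 ^ (m + 1)) + t) := by ring
        _ = b := by rw [hc]; field_simp
    rw [h3] at h1
    rw [← h1, commutator_def]
    exact Subgroup.commutator_mem_commutator trivial trivial
  · rw [commutator_def, Subgroup.commutator_le]
    intro g _ h _
    obtain ⟨a, b, rfl⟩ := uu_surj S g
    obtain ⟨x, y, rfl⟩ := uu_surj S h
    rw [uu_comm, mem_center_iff]

lemma card_center : Nat.card (Subgroup.center (tU S)) = Fintype.card F := by
  classical
  have hS := S.sc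
  let φ : F → Subgroup.center (tU S) := fun b => ⟨uu S 0 b, (mem_center_iff S 0 b).2 rfl⟩
  have hφ : Function.Bijective φ := by
    constructor
    · intro a b h
      exact (uu_inj S (congrArg Subtype.val h)).2
    · rintro ⟨u, hu⟩
      obtain ⟨a, b, rfl⟩ := uu_surj S u
      obtain rfl := (mem_center_iff S a b).1 hu
      exact ⟨b, rfl⟩
  rw [← Nat.card_congr (Equiv.ofBijective φ hφ), Nat.card_eq_fintype_card]

omit S in
lemma exponent_four {X : Type*} [Group X] (h1 : ∀ x : X, x ^ 4 = 1) (h2 : ∃ x : X, x ^ 2 ≠ 1) :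
    Monoid.exponent X = 4 := by
  have hdvd : Monoid.exponent X ∣ 2 ^ 2 := Monoid.exponent_dvd_of_forall_pow_eq_one h1
  rw [Nat.dvd_prime_pow Nat.prime_two] at hdvd
  obtain ⟨k, hk, hk2⟩ := hdvd
  obtain ⟨x, hx⟩ := h2
  interval_cases k
  · exfalso
    apply hx
    have := Monoid.pow_exponent_eq_one x
    rw [hk2] at this
    simp only [pow_zero, pow_one] at this
    rw [sq, this, one_mul]
  · exfalso
    apply hx
    have := Monoid.pow_exponent_eq_one x
    rw [hk2] at this
    simpa using this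
  · rw [hk2]; norm_num

/-- The Sylow package. -/
theorem sylow_props (P : Sylow 2 ↥(Cfsg.Sz F m)) :
    Nat.card P = (2 ^ (2 * m + 1)) ^ 2 ∧ Monoid.exponent P = 4 ∧
      Subgroup.center P = commutator P ∧ Nat.card (Subgroup.center P) = 2 ^ (2 * m + 1) := by
  classical
  haveI : Fact (Nat.Prime 2) := ⟨Nat.prime_two⟩
  let φ : tU S ≃* P := Sylow.equiv (sylU S) P
  refine ⟨?_, ?_, ?_, ?_⟩
  · rw [← Nat.card_congr φ.toEquiv, card_tU S, S.hF]
  · apply exponent_four
    · intro x
      have := uu_pow_four S (φ.symm x)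
      have h2 := congrArg φ this
      simpa using h2
    · refine ⟨φ (uu S 1 0), ?_⟩
      intro h
      rw [← map_pow, uu_sq, ← map_one φ] at h
      have h3 := φ.injective h
      rw [← uu_one S] at h3
      have := (uu_inj S h3).2
      simp at this
  · have h1 : Subgroup.center P = (Subgroup.center (tU S)).map φ.toMonoidHom := by
      ext x
      constructor
      · intro hx
        refine ⟨φ.symm x, ?_, by simp⟩
        exact (MulEquivClass.apply_mem_center_iff φ.symm).2 hx
      · rintro ⟨y, hy, rfl⟩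
        exact (MulEquivClass.apply_mem_center_iff φ).2 hy
    have h3 : commutator P = (commutator (tU S)).map φ.toMonoidHom := by
      rw [commutator_def, commutator_def, Subgroup.map_commutator]
      have : (⊤ : Subgroup (tU S)).map φ.toMonoidHom = ⊤ := by
        rw [Subgroup.map_top_of_surjective]
        exact φ.surjective
      rw [this]
    rw [h1, h3, center_eq_commutator S]
  · rw [← Nat.card_congr (Subgroup.centerCongr φ).toEquiv, card_center S, S.hF]

end Cfsg.Agent.Lib.SuzOv
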